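import Cfsg.Agent.H21.ClassSquare.PSL
import Cfsg.Agent.H37.Generation

/-!
Regular unipotent elements and diagonal elements of `SL_r` as products of simple transvections.
-/

set_option autoImplicit false
set_option linter.style.haveILetI false

namespace H21.ClassSquare.Exc

open Matrix H41 H41.Reg
open scoped MatrixGroups

variable {F : Type*} [Field F] {n : ℕ}

theorem castSucc_ne_succ' (i : Fin n) : i.castSucc ≠ i.succ := (Fin.castSucc_lt_succ (i := i)).ne

/-- The upper simple transvection. -/
def st (i : Fin n) (t : F) : SpecialLinearGroup (Fin (n + 1)) F :=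
  SpecialLinearGroup.transvection (castSucc_ne_succ' i) t

/-- The lower simple transvection. -/
def st' (i : Fin n) (t : F) : SpecialLinearGroup (Fin (n + 1)) F :=
  SpecialLinearGroup.transvection (castSucc_ne_succ' i).symm t

/-- A product of upper simple transvections. -/
def word (l : List (Fin n)) (f : Fin n → F) : SpecialLinearGroup (Fin (n + 1)) F :=
  (l.map fun i => st i (f i)).prod

theorem coe_st (i : Fin n) (t : F) :
    (st i t : Matrix (Fin (n + 1)) (Fin (n + 1)) F) = Matrix.transvection i.castSucc i.succ t := rfl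

theorem coe_st' (i : Fin n) (t : F) :
    (st' i t : Matrix (Fin (n + 1)) (Fin (n + 1)) F) = Matrix.transvection i.succ i.castSucc t := rfl

theorem word_facts (l : List (Fin n)) (f : Fin n → F) (hl : l.Nodup) :
    IsUpperWith (fun _ => 1) (word l f : Matrix (Fin (n + 1)) (Fin (n + 1)) F) ∧
      ∀ i : Fin n, (word l f : Matrix (Fin (n + 1)) (Fin (n + 1)) F) i.castSucc i.succ =
        if i ∈ l then f i else 0 := by
  induction l with
  | nil =>
    refine ⟨⟨fun i j h => ?_, fun i => ?_⟩, fun i => ?_⟩
    · simp [word, h.ne']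
    · simp [word]
    · simp [word, castSucc_ne_succ' i]
  | cons a l ih =>
    obtain ⟨ha, hl'⟩ := List.nodup_cons.1 hl
    obtain ⟨⟨h0, h1⟩, h2⟩ := ih hl'
    have hrow : ∀ x y, (word (a :: l) f : Matrix (Fin (n + 1)) (Fin (n + 1)) F) x y =
        (word l f : Matrix (Fin (n + 1)) (Fin (n + 1)) F) x y +
          if x = a.castSucc then f a * (word l f : Matrix (Fin (n + 1)) (Fin (n + 1)) F) a.succ y else 0 := by
      intro x y
      change (Matrix.transvection a.castSucc a.succ (f a) * (word l f : Matrix (Fin (n + 1)) (Fin (n + 1)) F)) x y = _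
      by_cases hx : x = a.castSucc
      · subst hx; rw [transvection_mul_apply_same, if_pos rfl]
      · rw [transvection_mul_apply_of_ne _ _ _ _ hx, if_neg hx, add_zero]
    refine ⟨⟨fun i j h => ?_, fun i => ?_⟩, fun i => ?_⟩
    · rw [hrow, h0 i j h, zero_add]
      split_ifs with hi
      · rw [h0 a.succ j (lt_trans h (hi ▸ Fin.castSucc_lt_succ)), mul_zero]
      · rfl
    · rw [hrow, h1]
      split_ifs with hi
      · rw [h0 a.succ i (hi ▸ Fin.castSucc_lt_succ), mul_zero, add_zero]
      · rw [add_zero]
    · rw [hrow, h2]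
      by_cases hi : i = a
      · subst hi; simp [ha, h1]
      · simp [hi]

theorem word_reg (l : List (Fin n)) (f : Fin n → F) (hl : l.Nodup) (hmem : ∀ i, i ∈ l) (hf : ∀ i, f i ≠ 0) :
    IsRegUpper (word l f : Matrix (Fin (n + 1)) (Fin (n + 1)) F) := by
  refine ⟨(word_facts l f hl).1, fun i j hij => ?_⟩
  obtain ⟨k, rfl⟩ : ∃ k : Fin n, k.castSucc = i := ⟨⟨i.val, by omega⟩, rfl⟩
  obtain rfl : j = k.succ := Fin.ext (by simpa using hij)
  rw [(word_facts l f hl).2, if_pos (hmem k)]
  exact hf k

/-- The standard regular unipotent element. -/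
def uni (F : Type*) [Field F] (n : ℕ) : SpecialLinearGroup (Fin (n + 1)) F := word (List.finRange n) fun _ => 1

theorem isConj_word (l : List (Fin n)) (f : Fin n → F) (hl : l.Nodup) (hmem : ∀ i, i ∈ l) (hf : ∀ i, f i ≠ 0) :
    IsConj (jordanGL F (n + 1)) (word l f : SpecialLinearGroup (Fin (n + 1)) F).toGL :=
  isConj_jordan_upper (Nat.succ_pos n) (by
    rw [Matrix.SpecialLinearGroup.coe_GL_coe_matrix]
    exact word_reg l f hl hmem hf)

theorem isConj_uni : IsConj (jordanGL F (n + 1)) (uni F n).toGL :=
  isConj_word _ _ (List.nodup_finRange n) List.mem_finRange fun _ => one_ne_zero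

theorem isConj_uni_inv : IsConj (jordanGL F (n + 1)) ((uni F n)⁻¹).toGL := by
  rw [map_inv]
  obtain ⟨a, ha⟩ := isConj_iff.1 (isConj_uni (F := F) (n := n))
  refine (isConj_jordan_inv (Nat.succ_pos n)).trans (isConj_iff.2 ⟨a, ?_⟩)
  rw [← ha]; group

/-- The scaling of the first coordinate. -/
noncomputable def dfirst (u : Fˣ) (n : ℕ) : GL (Fin (n + 1)) F :=
  GeneralLinearGroup.mk'' (diagonal fun i => if i.val = 0 then (u : F) else 1) (by
    rw [det_diagonal, isUnit_iff_ne_zero, Finset.prod_ne_zero_iff]
    intro i _; split_ifs <;> simp)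

theorem coe_dfirst (u : Fˣ) : ((dfirst u n : GL (Fin (n + 1)) F) : Matrix (Fin (n + 1)) (Fin (n + 1)) F) =
    diagonal fun i => if i.val = 0 then (u : F) else 1 := rfl

theorem dfirst_word (u : Fˣ) (l : List (Fin n)) (f : Fin n → F) :
    dfirst u n * (word l f).toGL * (dfirst u n)⁻¹ =
      (word l fun i => (if i.val = 0 then (u : F) else 1) * f i).toGL := by
  induction l with
  | nil => simp [word]
  | cons a l ih =>
    have h1 : dfirst u n * (st a (f a)).toGL * (dfirst u n)⁻¹ =
        (st a ((if a.val = 0 then (u : F) else 1) * f a)).toGL := by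
      rw [mul_inv_eq_iff_eq_mul]
      apply Units.ext
      simp only [Units.val_mul, coe_dfirst, Matrix.SpecialLinearGroup.coe_GL_coe_matrix, coe_st]
      ext x y
      rw [diagonal_mul, mul_diagonal, Matrix.transvection, Matrix.transvection]
      simp only [Matrix.add_apply, Matrix.one_apply, Matrix.single_apply]
      by_cases hxy : x = y
      · subst hxy
        simp [fun h : a.castSucc = x => fun h' : a.succ = x => castSucc_ne_succ' a (h.trans h'.symm)]
        by_cases h : a.castSucc = x <;> by_cases h' : a.succ = x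
        · exact absurd (h.trans h'.symm) (castSucc_ne_succ' a)
        all_goals simp [h, h', mul_comm]
      · by_cases h : a.castSucc = x ∧ a.succ = y
        · obtain ⟨rfl, rfl⟩ := h
          simp [hxy, mul_comm]
        · simp [hxy, h]
    simp only [word, List.map_cons, List.prod_cons, map_mul] at ih ⊢
    rw [← h1, ← ih]; group

/-- Conjugates of the Jordan block in `SL`: conjugate there to a word with one scaled entry. -/
theorem exists_conj_word (X : SpecialLinearGroup (Fin (n + 1)) F) (h : IsConj (jordanGL F (n + 1)) X.toGL) :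
    ∃ (A : SpecialLinearGroup (Fin (n + 1)) F) (u : Fˣ),
      X = A * word (List.finRange n) (fun i => if i.val = 0 then (u : F) else 1) * A⁻¹ := by
  obtain ⟨B, hB⟩ := isConj_iff.1 ((isConj_uni (F := F) (n := n)).symm.trans h)
  set u : Fˣ := Units.mk0 (B : Matrix (Fin (n + 1)) (Fin (n + 1)) F).det
    ((Matrix.isUnit_iff_isUnit_det _).1 B.isUnit).ne_zero with hu
  have hd : ((B * (dfirst u n)⁻¹ : GL (Fin (n + 1)) F) : Matrix (Fin (n + 1)) (Fin (n + 1)) F).det = 1 := by
    rw [Units.val_mul, Matrix.det_mul, Matrix.coe_units_inv, Matrix.det_nonsing_inv, coe_dfirst, det_diagonal,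
      Fin.prod_univ_succ]
    simp [hu]
    exact mul_inv_cancel₀ ((Matrix.isUnit_iff_isUnit_det _).1 B.isUnit).ne_zero
  let A : SpecialLinearGroup (Fin (n + 1)) F := ⟨_, hd⟩
  refine ⟨A, u, Matrix.SpecialLinearGroup.toGL_injective ?_⟩
  have e : Matrix.SpecialLinearGroup.toGL A = B * (dfirst u n)⁻¹ := Units.ext rfl
  rw [map_mul, map_mul, map_inv, e, ← hB]
  have := dfirst_word u (List.finRange n) (fun _ => (1 : F))
  simp only [mul_one] at this
  rw [← this, uni]
  group

/-- A diagonal element built from a simple pair. -/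
def hst (i : Fin n) (x : F) : SpecialLinearGroup (Fin (n + 1)) F :=
  st i x * st' i (-x⁻¹) * st i x * (st i (-1) * st' i 1 * st i (-1))

theorem hst_diag (i : Fin n) {x : F} (hx : x ≠ 0) :
    (hst i x : Matrix (Fin (n + 1)) (Fin (n + 1)) F).IsDiag := by
  intro a b hab
  have hne := castSucc_ne_succ' i
  rw [show (hst i x : Matrix (Fin (n + 1)) (Fin (n + 1)) F) =
    Matrix.transvection i.castSucc i.succ x * Matrix.transvection i.succ i.castSucc (-x⁻¹) *
      Matrix.transvection i.castSucc i.succ x * (Matrix.transvection i.castSucc i.succ (-1) *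
        Matrix.transvection i.succ i.castSucc 1 * Matrix.transvection i.castSucc i.succ (-1)) * 1 from
      (mul_one _).symm]
  simp only [Matrix.mul_assoc]
  by_cases h1 : a = i.castSucc
  · subst h1
    simp only [transvection_mul_apply_same, transvection_mul_apply_of_ne, hne, hne.symm, ne_eq,
      not_false_eq_true, Matrix.one_apply]
    by_cases h2 : b = i.succ
    · subst h2; simp [hne]; field_simp; ring
    · simp [hab, Ne.symm h2]
  · by_cases h3 : a = i.succ
    · subst h3
      simp only [transvection_mul_apply_same, transvection_mul_apply_of_ne, hne, hne.symm, ne_eq,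
        not_false_eq_true, Matrix.one_apply]
      by_cases h2 : b = i.castSucc
      · subst h2; simp [hne.symm]; field_simp; ring
      · simp [hab, Ne.symm h2]
    · simp only [transvection_mul_apply_of_ne, h1, h3, ne_eq, not_false_eq_true, Matrix.one_apply, hab, if_false]

/-- Lower times diagonal times upper is no scalar, unless the superdiagonal of the upper factor vanishes. -/
theorem not_scalar {B D A : Matrix (Fin (n + 1)) (Fin (n + 1)) F} (hB : B.BlockTriangular OrderDual.toDual)
    (hD : D.IsDiag) (hdet : IsUnit (B * D).det) (i : Fin n) (hA : A i.castSucc i.succ ≠ 0) (μ : F) :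
    B * D * A ≠ μ • 1 := by
  intro h
  have hE : (B * D).BlockTriangular OrderDual.toDual := hB.mul (fun x y hxy => hD (by
    rintro rfl; exact lt_irrefl _ hxy))
  haveI := (B * D).invertibleOfIsUnitDet hdet
  have hinv := Matrix.blockTriangular_inv_of_blockTriangular hE
  have e : A = μ • (B * D)⁻¹ := by
    calc A = (B * D)⁻¹ * (B * D * A) := by rw [← Matrix.mul_assoc, Matrix.nonsing_inv_mul _ hdet, Matrix.one_mul]
      _ = _ := by rw [h, Matrix.mul_smul, Matrix.mul_one]
  apply hA
  rw [e, Matrix.smul_apply, hinv (by simp), smul_zero]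

/-- Conjugates of the Jordan block have `q ^ r`-th power one. -/
theorem pow_card_eq_one [Fintype F] (X : SpecialLinearGroup (Fin (n + 1)) F)
    (h : IsConj (jordanGL F (n + 1)) X.toGL) : X ^ Fintype.card F ^ (n + 1) = 1 := by
  classical
  obtain ⟨p, hp⟩ := CharP.exists F
  obtain ⟨k, hprime, hcard⟩ := FiniteField.card F p
  haveI : Fact p.Prime := ⟨hprime⟩
  set N := Fintype.card F ^ (n + 1) with hN
  have hNp : N = p ^ ((k : ℕ) * (n + 1)) := by rw [hN, hcard, ← pow_mul]
  have hNle : n + 1 ≤ N := (Nat.lt_pow_self (Fintype.one_lt_card)).le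
  have hnil : (jordan F (n + 1) - 1) ^ (n + 1) = 0 := by
    have hup : (jordan F (n + 1)).BlockTriangular id := fun i j h => (jordan_reg (K := F)).1.1 i j h
    have := Matrix.aeval_self_charpoly (jordan F (n + 1))
    rw [Matrix.charpoly_of_isUpperTriangular _ hup] at this
    simpa [jordan] using this
  have hJ : jordanGL F (n + 1) ^ N = 1 := by
    refine Units.ext ?_
    rw [Units.val_pow_eq_pow_val, coe_jordanGL, Units.val_one,
      show jordan F (n + 1) = (jordan F (n + 1) - 1) + 1 from (sub_add_cancel _ _).symm, hNp,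
      add_pow_char_pow_of_commute p (h := Commute.one_right _), one_pow, ← hNp, pow_eq_zero_of_le hNle hnil, zero_add]
  obtain ⟨a, ha⟩ := isConj_iff.1 h
  apply Matrix.SpecialLinearGroup.toGL_injective
  rw [map_pow, ← ha, conj_pow, hJ, mul_one, mul_inv_cancel, map_one]

end H21.ClassSquare.Exc
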