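import Cfsg.Agent.H21.ClassSquare.Exc.Main
import Cfsg.Agent.H55.ClassSq.ChainHom

/-!
The numerical data of the five exceptional types.
-/

set_option autoImplicit false
set_option maxRecDepth 100000

namespace H21.ClassSquare.Exc

open Cfsg Cfsg.Lie

theorem graphG2 : Graph chevG2 where
  sum_le := by decide +kernel
  conn := by decide +kernel

/-- The Levi data of type G2. -/
def leviG2 : LeviData chevG2 0 where
  graph := graphG2
  w := ![3, 5]
  R := fun _ _ => 0
  e := fun _ _ => 1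
  Jv := ![]
  L := ([0, 1, 0, 1, 0, 1] : List (Fin 2))
  v := ![0, 0]
  Ka := {⟨1, of_decide_eq_true rfl⟩}
  Kb := {⟨0, of_decide_eq_true rfl⟩}
  W := ∅
  sgn := by decide +kernel
  lt := by decide +kernel
  succ := by decide +kernel
  pos := by decide +kernel
  inj := by decide +kernel
  Jinj := by decide +kernel
  degJ := by decide +kernel
  deg0 := by decide +kernel
  deg_le := by decide +kernel
  deg_pos := by decide +kernel
  inner := by decide +kernel
  mirror := by decide +kernel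
  dual := by decide +kernel
  cover := by decide +kernel
  disj := by decide +kernel
  Wdisj := by decide +kernel
  hKa := by decide +kernel
  hKb := by decide +kernel
  wit := by decide +kernel

theorem graphF4 : Graph chevF4 where
  sum_le := by decide +kernel
  conn := by decide +kernel

/-- The Levi data of type F4. -/
def leviF4 : LeviData chevF4 2 where
  graph := graphF4
  w := ![5, 9, 12, 6]
  R := ![![0, 25, 26], ![22, 0, 24], ![21, 23, 0]]
  e := ![![1, 1, (-1)], ![1, 1, 1], ![(-1), 1, 1]]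
  Jv := ![⟨2, of_decide_eq_true rfl⟩, ⟨3, of_decide_eq_true rfl⟩]
  L := ([1, 2, 0, 1, 2, 3, 2, 1, 2, 0, 1, 2, 3, 1, 2, 0, 1, 2, 0, 1, 0] : List (Fin 4))
  v := ![0, 1, 2, 1]
  Ka := {⟨1, of_decide_eq_true rfl⟩}
  Kb := {⟨0, of_decide_eq_true rfl⟩}
  W := {⟨3, of_decide_eq_true rfl⟩}
  sgn := by decide +kernel
  lt := by decide +kernel
  succ := by decide +kernel
  pos := by decide +kernel
  inj := by decide +kernel
  Jinj := by decide +kernel
  degJ := by decide +kernel
  deg0 := by decide +kernel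
  deg_le := by decide +kernel
  deg_pos := by decide +kernel
  inner := by decide +kernel
  mirror := by decide +kernel
  dual := by decide +kernel
  cover := by decide +kernel
  disj := by decide +kernel
  Wdisj := by decide +kernel
  hKa := by decide +kernel
  hKb := by decide +kernel
  wit := by decide +kernel

theorem graphE6 : Graph chevE6 where
  sum_le := by decide +kernel
  conn := by decide +kernel

/-- The Levi data of type E6. -/
def leviE6 : LeviData chevE6 3 where
  graph := graphE6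
  w := ![4, 6, 7, 10, 7, 4]
  R := ![![0, 42, 43, 44], ![29, 0, 39, 40], ![28, 32, 0, 37], ![27, 31, 34, 0]]
  e := ![![1, 1, (-1), 1], ![1, 1, 1, (-1)], ![(-1), 1, 1, 1], ![1, (-1), 1, 1]]
  Jv := ![⟨2, of_decide_eq_true rfl⟩, ⟨3, of_decide_eq_true rfl⟩, ⟨4, of_decide_eq_true rfl⟩]
  L := ([0, 2, 3, 4, 5, 1, 3, 4, 2, 3, 0, 2, 1, 3, 4, 5, 4, 3, 0, 2, 1, 3, 4, 0, 2, 1, 3, 2, 1, 0] : List (Fin 6))
  v := ![-1, 0, 0, 0, 0, 0]
  Ka := {⟨0, of_decide_eq_true rfl⟩, ⟨1, of_decide_eq_true rfl⟩, ⟨5, of_decide_eq_true rfl⟩}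
  Kb := ∅
  W := {⟨3, of_decide_eq_true rfl⟩}
  sgn := by decide +kernel
  lt := by decide +kernel
  succ := by decide +kernel
  pos := by decide +kernel
  inj := by decide +kernel
  Jinj := by decide +kernel
  degJ := by decide +kernel
  deg0 := by decide +kernel
  deg_le := by decide +kernel
  deg_pos := by decide +kernel
  inner := by decide +kernel
  mirror := by decide +kernel
  dual := by decide +kernel
  cover := by decide +kernel
  disj := by decide +kernel
  Wdisj := by decide +kernel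
  hKa := by decide +kernel
  hKb := by decide +kernel
  wit := by decide +kernel

theorem graphE7 : Graph chevE7 where
  sum_le := by decide +kernel
  conn := by decide +kernel

/-- The Levi data of type E7. -/
def leviE7 : LeviData chevE7 4 where
  graph := graphE7
  w := ![5, 7, 9, 13, 10, 7, 4]
  R := ![![0, 73, 74, 75, 76], ![52, 0, 69, 70, 71], ![51, 56, 0, 66, 67], ![50, 55, 59, 0, 64], ![49, 54, 58, 61, 0]]
  e := ![![1, 1, (-1), 1, (-1)], ![1, 1, 1, (-1), 1], ![(-1), 1, 1, 1, (-1)], ![1, (-1), 1, 1, 1], ![(-1), 1, (-1), 1, 1]]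
  Jv := ![⟨2, of_decide_eq_true rfl⟩, ⟨3, of_decide_eq_true rfl⟩, ⟨4, of_decide_eq_true rfl⟩, ⟨5, of_decide_eq_true rfl⟩]
  L := ([6, 5, 4, 3, 2, 1, 3, 4, 5, 6, 0, 2, 3, 4, 5, 1, 3, 4, 2, 3, 0, 2, 1, 3, 4, 5, 6, 5, 1, 3, 4, 2, 3, 0, 2, 1, 3, 4, 5, 4, 3, 0, 2, 1, 3, 4, 0, 2, 1, 3, 2, 1, 0] : List (Fin 7))
  v := ![-1, 0, 0, 0, 0, 0, 0]
  Ka := {⟨0, of_decide_eq_true rfl⟩, ⟨1, of_decide_eq_true rfl⟩, ⟨6, of_decide_eq_true rfl⟩}
  Kb := ∅
  W := {⟨3, of_decide_eq_true rfl⟩}
  sgn := by decide +kernel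
  lt := by decide +kernel
  succ := by decide +kernel
  pos := by decide +kernel
  inj := by decide +kernel
  Jinj := by decide +kernel
  degJ := by decide +kernel
  deg0 := by decide +kernel
  deg_le := by decide +kernel
  deg_pos := by decide +kernel
  inner := by decide +kernel
  mirror := by decide +kernel
  dual := by decide +kernel
  cover := by decide +kernel
  disj := by decide +kernel
  Wdisj := by decide +kernel
  hKa := by decide +kernel
  hKb := by decide +kernel
  wit := by decide +kernel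

theorem graphE8 : Graph chevE8 where
  sum_le := by decide +kernel
  conn := by decide +kernel

/-- The Levi data of type E8. -/
def leviE8 : LeviData chevE8 5 where
  graph := graphE8
  w := ![11, 16, 21, 31, 25, 19, 13, 7]
  R := ![![0, 135, 136, 137, 138, 139], ![104, 0, 130, 131, 132, 133], ![103, 109, 0, 126, 127, 128], ![102, 108, 113, 0, 123, 124], ![101, 107, 112, 116, 0, 121], ![100, 106, 111, 115, 118, 0]]
  e := ![![1, 1, (-1), 1, (-1), 1], ![1, 1, 1, (-1), 1, (-1)], ![(-1), 1, 1, 1, (-1), 1], ![1, (-1), 1, 1, 1, (-1)], ![(-1), 1, (-1), 1, 1, 1], ![1, (-1), 1, (-1), 1, 1]]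
  Jv := ![⟨2, of_decide_eq_true rfl⟩, ⟨3, of_decide_eq_true rfl⟩, ⟨4, of_decide_eq_true rfl⟩, ⟨5, of_decide_eq_true rfl⟩, ⟨6, of_decide_eq_true rfl⟩]
  L := ([7, 6, 5, 4, 3, 2, 1, 3, 4, 5, 6, 0, 2, 3, 4, 5, 1, 3, 4, 2, 3, 0, 2, 1, 3, 4, 5, 6, 7, 6, 5, 4, 3, 2, 1, 3, 4, 5, 6, 0, 2, 3, 4, 5, 1, 3, 4, 2, 3, 0, 2, 1, 3, 4, 5, 6, 7, 1, 3, 4, 5, 6, 0, 2, 3, 4, 5, 1, 3, 4, 2, 3, 0, 2, 1, 3, 4, 5, 6, 5, 1, 3, 4, 2, 3, 0, 2, 1, 3, 4, 5, 4, 3, 0, 2, 1, 3, 4, 0, 2, 1, 3, 2, 1, 0] : List (Fin 8))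
  v := ![-1, 0, 0, 0, 0, 0, 0, 0]
  Ka := {⟨0, of_decide_eq_true rfl⟩, ⟨1, of_decide_eq_true rfl⟩, ⟨7, of_decide_eq_true rfl⟩}
  Kb := ∅
  W := {⟨3, of_decide_eq_true rfl⟩}
  sgn := by decide +kernel
  lt := by decide +kernel
  succ := by decide +kernel
  pos := by decide +kernel
  inj := by decide +kernel
  Jinj := by decide +kernel
  degJ := by decide +kernel
  deg0 := by decide +kernel
  deg_le := by decide +kernel
  deg_pos := by decide +kernel
  inner := by decide +kernel
  mirror := by decide +kernel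
  dual := by decide +kernel
  cover := by decide +kernel
  disj := by decide +kernel
  Wdisj := by decide +kernel
  hKa := by decide +kernel
  hKb := by decide +kernel
  wit := by decide +kernel

end H21.ClassSquare.Exc
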