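import Cfsg.Agent.H21.ClassSquare.Exc.Data

/-!
Class squares in the exceptional Chevalley groups over fields with at least nine elements.
-/

set_option autoImplicit false
set_option linter.style.haveILetI false

namespace H21.ClassSquare.Exc

open Cfsg Cfsg.Lie
open Matrix (SpecialLinearGroup)
open scoped MatrixGroups

theorem exists_generator_units {F : Type*} [Field F] [Fintype F] (hq : 9 ≤ Fintype.card F) :
    ∃ s : Fˣ, (∀ m : ℤ, m.natAbs ≤ 7 → s ^ m = 1 → m = 0) ∧ s ^ Fintype.card F = s := by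
  classical
  obtain ⟨s, hs⟩ := IsCyclic.exists_generator (α := Fˣ)
  have hord : orderOf s = Fintype.card F - 1 := by
    rw [orderOf_eq_card_of_forall_mem_zpowers hs, Nat.card_units, Nat.card_eq_fintype_card]
  refine ⟨s, fun m hm h => ?_, ?_⟩
  · have h1 : (orderOf s : ℤ) ∣ m := orderOf_dvd_iff_zpow_eq_one.2 h
    by_contra hne
    have := Int.natAbs_le_of_dvd_ne_zero h1 hne
    simp only [Int.natAbs_natCast] at this
    omega
  · conv_lhs => rw [show Fintype.card F = orderOf s + 1 by omega]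
    rw [pow_succ, pow_orderOf_eq_one, one_mul]

theorem group_square {D : ChevalleyDatum} (hD : D ∈ [chevG2, chevB2, chevD4, chevF4, chevE6, chevE7, chevE8])
    (hr : 0 < D.rank) {n : ℕ} (V : LeviData D n) {F : Type*} [Field F] [Fintype F] (hq : 9 ≤ Fintype.card F)
    (φJ : SpecialLinearGroup (Fin (n + 1)) F →* ↥(D.group F)) (hφ : IsChain V φJ)
    {G : Type*} [Group G] (e : G ≃* ↥(D.group F)) :
    ∃ c : G, ∀ g : G, ∃ x y : G, g = (x * c * x⁻¹) * (y * c * y⁻¹) := by
  classical
  obtain ⟨T, ⟨K⟩⟩ := H52.bnData_of_mem hD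
  have hne : ∃ a : F, a ≠ 0 ∧ a ≠ 1 := by
    by_contra h
    push Not at h
    have : (Finset.univ : Finset F) ⊆ {0, 1} := fun x _ => by
      by_cases hx : x = 0
      · simp [hx]
      · simp [h x hx]
    have := (Finset.card_le_card this).trans Finset.card_le_two
    rw [Finset.card_univ] at this
    omega
  obtain ⟨hsimple, hnc⟩ := H52.group_simple (F := F) hD (fun _ => hne)
  have hc0 : Subgroup.center ↥(D.group F) = ⊥ :=
    (hsimple.eq_bot_or_eq_top_of_normal _ inferInstance).resolve_right fun h =>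
      hnc ⟨⟨fun a b => (Subgroup.mem_center_iff.1 (h ▸ Subgroup.mem_top b) a)⟩⟩
  obtain ⟨s, hs, hsq⟩ := exists_generator_units hq
  let c := zel K V s * φJ (uni F n)
  refine ⟨e.symm c, fun g => ?_⟩
  have h2 : Two c (e g) := by
    by_cases hg : e g = 1
    · rw [hg, ← mul_inv_cancel c]
      exact two_of_isConj (IsConj.refl c) (real_c0 K V hφ hc0 s)
    · exact two_c0 K V hφ hq hr hc0 hs hsq hg
  obtain ⟨x, y, h⟩ := h2
  refine ⟨e.symm x, e.symm y, ?_⟩
  rw [← map_inv, ← map_inv, ← map_mul, ← map_mul, ← map_mul, ← map_mul, ← map_mul, ← h, e.symm_apply_apply]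

variable {F : Type*} [Field F] [Fintype F] (hq : 9 ≤ Fintype.card F) {G : Type*} [Group G]
include hq

theorem g2_square (e : G ≃* ↥(chevG2.group F)) :
    ∃ c : G, ∀ g : G, ∃ x y : G, g = (x * c * x⁻¹) * (y * c * y⁻¹) :=
  group_square (by simp) (by decide) leviG2 hq 1 (fun i j h => absurd (Subsingleton.elim (α := Fin 1) i j) h) e

theorem f4_square (e : G ≃* ↥(chevF4.group F)) :
    ∃ c : G, ∀ g : G, ∃ x y : G, g = (x * c * x⁻¹) * (y * c * y⁻¹) :=
  group_square (by simp) (by decide) leviF4 hq (H55.ClassSq.exists_hom_F4 F).choose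
    (H55.ClassSq.exists_hom_F4 F).choose_spec e

theorem e6_square (e : G ≃* ↥(chevE6.group F)) :
    ∃ c : G, ∀ g : G, ∃ x y : G, g = (x * c * x⁻¹) * (y * c * y⁻¹) :=
  group_square (by simp) (by decide) leviE6 hq (H55.ClassSq.exists_hom_E6 F).choose
    (H55.ClassSq.exists_hom_E6 F).choose_spec e

theorem e7_square (e : G ≃* ↥(chevE7.group F)) :
    ∃ c : G, ∀ g : G, ∃ x y : G, g = (x * c * x⁻¹) * (y * c * y⁻¹) :=
  group_square (by simp) (by decide) leviE7 hq (H55.ClassSq.exists_hom_E7 F).choose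
    (H55.ClassSq.exists_hom_E7 F).choose_spec e

theorem e8_square (e : G ≃* ↥(chevE8.group F)) :
    ∃ c : G, ∀ g : G, ∃ x y : G, g = (x * c * x⁻¹) * (y * c * y⁻¹) :=
  group_square (by simp) (by decide) leviE8 hq (H55.ClassSq.exists_hom_E8 F).choose
    (H55.ClassSq.exists_hom_E8 F).choose_spec e

end H21.ClassSquare.Exc
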