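import Cfsg.Agent.H21.ClassSquare.Exc.Moves
import Cfsg.Agent.H21.ChevClasses

/-!
The Chevalley groups as split root group systems, and their neighbour bounds.
-/

set_option autoImplicit false
set_option linter.unusedSectionVars false
set_option linter.style.haveILetI false

namespace H21.ClassSquare.Exc

open Cfsg Cfsg.Lie
open H53 (RootGroupSys ChevSys matSys)
open H53.RootGroupSys
open Polynomial

variable {D : ChevalleyDatum} {T : H52.Tables} {F : Type*} [Field F] (K : H52.BNData D T)

theorem rel : ChevSys.Rel K.W (matSys D F) := H53.matRel K.chk K.W K.ok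
  fun _ _ hr hs hrs hneg t u => K.chk.comm_formula hr hs hrs hneg t u

/-- The root element inside the group. -/
noncomputable abbrev xG (r : Fin D.nroots) (t : F) : ↥(D.group F) := (matSys D F).x r t

theorem coe_xG (r : Fin D.nroots) (t : F) : ((xG r t : ↥(D.group F)) : GL D.Idx F) = H52.rt D r.val t := rfl

include K in
theorem gauss_eq (i : Fin D.rank) (e a : F) (s : Fˣ) (hs : (s : F) = 1 + e * a) :
    xG (ChevSys.sa K.W i) e * xG (ChevSys.na K.W i) a =
      xG (ChevSys.na K.W i) (a / s) * CC.phi K (Pi.mulSingle i s) * xG (ChevSys.sa K.W i) (e / s) := by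
  have hX := rel (F := F) K
  by_cases ha : a = 0
  · subst ha
    have hs1 : s = 1 := Units.ext (by simpa using hs)
    subst hs1
    simp [xG, ChevSys.x_zero hX]
  set X := matSys D F
  set p := ChevSys.sa K.W i
  set m := ChevSys.na K.W i
  set n : F → ↥(D.group F) := ChevSys.nEl K.W X i
  set h : F → ↥(D.group F) := ChevSys.hEl K.W X i
  have hs0 : (s : F) ≠ 0 := s.ne_zero
  have hh : ∀ t : Fˣ, h (t : F) = CC.phi K (Pi.mulSingle i t) := CC.hEl_eq K i
  have hmul : ∀ t u : F, t ≠ 0 → u ≠ 0 → h t * h u = h (t * u) := by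
    intro t u ht hu
    have := hh (Units.mk0 t ht * Units.mk0 u hu)
    rw [Units.val_mul, Pi.mulSingle_mul, map_mul, ← hh, ← hh] at this
    exact this.symm
  have hneg : ∀ u : F, u ≠ 0 → n 1 * h u = h u⁻¹ * n 1 := by
    intro u hu
    have h1 := ChevSys.h_conj_n hX i i (inv_ne_zero hu)
    have h2 : D.cartan i.val p.val = 2 := by
      rw [show p.val = D.simple i.val from K.W.simple_eq i]; exact (K.chk.simple_facts i.isLt).2.2.1
    rw [h2, zpow_two, ChevSys.nEl_eq hX i (u⁻¹ * u⁻¹)] at h1
    change h u⁻¹ * n 1 * (h u⁻¹)⁻¹ = h (u⁻¹ * u⁻¹) * n 1 at h1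
    have hone : h u⁻¹ * h u = 1 := by
      rw [hmul _ _ (inv_ne_zero hu) hu, inv_mul_cancel₀ hu]
      simpa using hh 1
    rw [← hmul _ _ (inv_ne_zero hu) (inv_ne_zero hu), mul_inv_eq_iff_eq_mul, mul_assoc, mul_assoc] at h1
    have h3 := mul_left_cancel h1
    calc n 1 * h u = h u⁻¹ * n 1 * (h u⁻¹ * h u) := by
          conv_lhs => rw [h3]
          group
      _ = _ := by rw [hone, mul_one]
  have hn : ∀ t : F, n t = h t * n 1 := ChevSys.nEl_eq hX i
  have hm : ∀ b : F, b ≠ 0 → X.x m b = X.x p b⁻¹ * n (-b⁻¹) * X.x p b⁻¹ := by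
    intro b hb
    simp only [n, ChevSys.nEl]
    rw [← mul_assoc, ← mul_assoc, hX.add, add_neg_cancel, ChevSys.x_zero hX, one_mul, mul_assoc, hX.add,
      neg_add_cancel, ChevSys.x_zero hX, mul_one, inv_neg, inv_inv, neg_neg]
  rw [← hh]
  show X.x p e * X.x m a = X.x m (a / s) * h s * X.x p (e / s)
  rw [hm a ha, hm (a / s) (div_ne_zero ha hs0), hn (-a⁻¹), hn (-(a / (s : F))⁻¹), ← mul_assoc, ← mul_assoc, ← mul_assoc, hX.add]
  have hA : n 1 * X.x p ((a / (s : F))⁻¹) * h s =
      h (s : F)⁻¹ * n 1 * X.x p (((s : F) ^ (2 : ℤ))⁻¹ * (a / (s : F))⁻¹) := by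
    have hc := hX.conj_h i p (s : F) hs0 (((s : F) ^ (2 : ℤ))⁻¹ * (a / (s : F))⁻¹)
    have h2 : D.cartan i.val p.val = 2 := by
      rw [show p.val = D.simple i.val from K.W.simple_eq i]; exact (K.chk.simple_facts i.isLt).2.2.1
    rw [h2, ← mul_assoc, mul_inv_cancel₀ (zpow_ne_zero _ hs0), one_mul] at hc
    change h s * _ = X.x p _ * h s at hc
    rw [mul_assoc (n 1), ← hc, ← mul_assoc, hneg _ hs0]
  have hB : h (-(a / (s : F))⁻¹) * h (s : F)⁻¹ = h (-a⁻¹) := by
    rw [hmul _ _ (by simp [ha, hs0]) (inv_ne_zero hs0)]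
    congr 1; field_simp
  have hC : ((s : F) ^ (2 : ℤ))⁻¹ * (a / (s : F))⁻¹ + e / (s : F) = a⁻¹ := by
    field_simp
    rw [hs]
    ring
  have hD : (a / (s : F))⁻¹ = e + a⁻¹ := by rw [hs]; field_simp; ring
  calc X.x p (e + a⁻¹) * h (-a⁻¹) * n 1 * X.x p a⁻¹
      = X.x p ((a / (s : F))⁻¹) * h (-(a / (s : F))⁻¹) * (h (s : F)⁻¹ * n 1 *
          X.x p (((s : F) ^ (2 : ℤ))⁻¹ * (a / (s : F))⁻¹)) * X.x p (e / s) := by
        rw [← hD, ← hB]
        simp only [mul_assoc, hX.add, hC]
    _ = _ := by rw [← hA]; group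

/-- The parametrised root group system of a Chevalley group. -/
noncomputable def split : Split (K.sys F) F where
  x := xG
  x_add r t u := ((rel K).add r t u).symm
  mem_U r g := ChevSys.mem_Usub (rel K)
  x_inj r t u h := K.chk.rt_injective r.isLt (congrArg Subtype.val h)
  φ := CC.phi K
  H_eq := by
    refine Subgroup.map_injective (D.group F).subtype_injective ?_
    rw [K.map_H, K.chk.diagonalSubgroup_eq, MonoidHom.map_range]
    rfl
  A i r := D.cartan i.val r.val
  conj_φ c r u := Subtype.ext (by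
    simp only [Subgroup.coe_mul, Subgroup.coe_inv, CC.coe_phi, coe_xG]
    exact K.chk.torus_conj_rt c r.isLt u)
  A_self i := by
    show D.cartan i.val (ChevSys.sa K.W i).val = 2
    rw [show (ChevSys.sa K.W i).val = D.simple i.val from K.W.simple_eq i]
    exact (K.chk.simple_facts i.isLt).2.2.1
  A_neg i j := (rel (F := F) K).cartan_neg j i
  neg_neg r := by
    exact Fin.ext (by
      show D.neg (D.neg r.val) = r.val
      exact K.chk.neg_neg r.isLt)
  gauss := gauss_eq K
  w₀ := (K.exists_longest F).choose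
  w₀_mem := (K.exists_longest F).choose_spec.1
  π₀ := (K.exists_longest F).choose_spec.2.choose
  acts₀ := (K.exists_longest F).choose_spec.2.choose_spec.1
  flip₀ r := by
    set π := (K.exists_longest F).choose_spec.2.choose with hπ
    have h := (K.exists_longest F).choose_spec.2.choose_spec.2
    have hW := (K.exists_longest F).choose_spec.2.choose_spec.1.1
    have hA := K.axioms' (F := F)
    refine ⟨fun h1 h2 => h r h2 h1, fun h1 => ?_⟩
    have h2 := h _ ((hA.pos_neg r).2 h1)
    rwa [W_neg hA hW, hA.pos_neg, not_not] at h2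

theorem split_x (r : Fin D.nroots) (t : F) : (split K).x r t = xG r t := rfl

theorem split_A (i : Fin D.rank) (r : Fin D.nroots) : (split (F := F) K).A i r = D.cartan i.val r.val := rfl

theorem split_φ (c : Fin D.rank → Fˣ) : (split K).φ c = CC.phi K c := rfl

/-- The numerical part of the neighbour bounds. -/
structure Graph (D : ChevalleyDatum) : Prop where
  sum_le : ∀ i : Fin D.rank,
    ∑ j ∈ Finset.univ.erase i, (D.cartan i.val (D.simple j.val)).natAbs ≤ 3
  conn : ∀ s : Finset (Fin D.rank), s.Nonempty → s ≠ Finset.univ →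
    ∃ i ∈ s, ∃ j ∉ s, (D.cartan i.val (D.simple j.val)).natAbs ≠ 0

section Conj

include K

theorem co_eq_sa (i : Fin D.rank) (j : Fin D.rank) :
    T.co (ChevSys.sa K.W i).val j.val = if j = i then 1 else 0 := by
  rw [show (ChevSys.sa K.W i).val = D.simple i.val from K.W.simple_eq i,
    K.chk.co_simple i.isLt j.isLt]
  simp [Fin.ext_iff]

theorem co_eq_na (i : Fin D.rank) (j : Fin D.rank) :
    T.co (ChevSys.na K.W i).val j.val = if j = i then -1 else 0 := by
  show T.co (D.neg (ChevSys.sa K.W i).val) j.val = _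
  rw [K.chk.co_neg (ChevSys.sa K.W i).isLt j.isLt, co_eq_sa K]
  split_ifs <;> simp

/-- The word of a commutator formula inside the group. -/
theorem exists_word (q r : Fin D.nroots) (h1 : r ≠ q) (h2 : r.val ≠ D.neg q.val) (t : F) :
    ∃ L : List (Fin D.nroots × ℤ × ℕ × ℕ),
      (∀ c ∈ L, 1 ≤ c.2.2.1 ∧ 1 ≤ c.2.2.2 ∧ ∀ j < D.rank,
        T.co c.1.val j = (c.2.2.1 : ℤ) * T.co q.val j + (c.2.2.2 : ℤ) * T.co r.val j) ∧
      ∀ e : F, xG q e * xG r t * (xG q e)⁻¹ =
        xG r t * (L.map fun c => xG c.1 ((c.2.1 : F) * e ^ c.2.2.1 * t ^ c.2.2.2)).prod := by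
  have hlt := fun c hc => K.chk.commTerms_lt (r := q.val) (s := r.val) c hc
  refine ⟨(D.commTerms q.val r.val).attach.map fun c => (⟨c.1.1, hlt c.1 c.2⟩, c.1.2), ?_, fun e => ?_⟩
  · intro c hc
    obtain ⟨⟨c', hc'⟩, -, rfl⟩ := List.mem_map.1 hc
    exact K.chk.commTerms_co q.isLt r.isLt c' hc'
  · apply Subtype.ext
    have h := K.chk.comm_rt (F := F) q.isLt r.isLt (fun e => h1 (Fin.ext e)) h2 (-e) t
    have hw : H52.wordRt D (D.commWord F q.val r.val (-e) t) =
        ((((D.commTerms q.val r.val).attach.map fun c =>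
          ((⟨c.1.1, hlt c.1 c.2⟩ : Fin D.nroots), c.1.2)).map
            fun c => (xG c.1 ((c.2.1 : F) * e ^ c.2.2.1 * t ^ c.2.2.2) : ↥(D.group F))).prod :
          GL D.Idx F) := by
      rw [H52.wordRt, ChevalleyDatum.commWord, List.map_map, List.map_map, SubmonoidClass.coe_list_prod,
        List.map_map]
      conv_lhs => rw [← List.attach_map_subtype_val (D.commTerms q.val r.val), List.map_map]
      refine congrArg List.prod (List.map_congr_left fun c _ => ?_)
      simp [coe_xG]
    rw [Subgroup.coe_mul, Subgroup.coe_mul, Subgroup.coe_mul, Subgroup.coe_inv, coe_xG, coe_xG, K.chk.rt_inv,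
      ← hw]
    rw [mul_assoc, h, ← mul_assoc, ← mul_assoc, K.chk.rt_mul, add_neg_cancel, K.chk.rt_zero, one_mul]

/-- Degree bound for a root next to a simple root. -/
theorem coef_le {i j : Fin D.rank} (hij : i ≠ j) {r : Fin D.nroots} (ε : ℤ) (hε : ε = 1 ∨ ε = -1)
    (n : ℕ) (hr : ∀ m : Fin D.rank, T.co r.val m.val = if m = j then ε else if m = i then ε * n else 0) :
    n ≤ (D.cartan i.val (D.simple j.val)).natAbs := by
  have hc : D.cartan i.val r.val = ε * D.cartan i.val (D.simple j.val) + ε * n * 2 := by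
    rw [K.chk.cartan_eq r.isLt i.isLt, ← Fin.sum_univ_eq_sum_range,
      Finset.sum_eq_add_of_mem j i (Finset.mem_univ _) (Finset.mem_univ _) hij.symm]
    · rw [hr, hr, if_pos rfl, if_neg hij, if_pos rfl, (K.chk.simple_facts i.isLt).2.2.1]
    · intro m _ hm
      rw [hr, if_neg hm.1, if_neg hm.2, zero_mul]
  have h1 := K.chk.co_reflect i.isLt r.isLt i.isLt
  rw [if_pos rfl, hr i, if_neg hij, if_pos rfl, hc] at h1
  have hlt := K.chk.reflect_lt i.isLt r.isLt
  have h2 := K.chk.co_reflect i.isLt r.isLt j.isLt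
  rw [if_neg (fun e => hij (Fin.ext e).symm), hr, if_pos rfl, sub_zero] at h2
  by_cases hpos : D.nroots / 2 ≤ D.reflectRoot i.val r.val
  · have a1 := K.chk.co_nonneg hpos hlt i.isLt
    have a2 := K.chk.co_nonneg hpos hlt j.isLt
    rcases hε with rfl | rfl <;> omega
  · have a1 := K.chk.co_nonpos (not_le.1 hpos) i.isLt
    have a2 := K.chk.co_nonpos (not_le.1 hpos) j.isLt
    rcases hε with rfl | rfl <;> omega

variable [DecidableEq F]

/-- Polynomial for the component at the root `z` of a conjugate of a root element by a simple root element. -/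
theorem exists_poly {i j : Fin D.rank} (hij : i ≠ j) (ε : ℤ) (hε : ε = 1 ∨ ε = -1) (q z r : Fin D.nroots)
    (hq : ∀ m : Fin D.rank, T.co q.val m.val = if m = i then -ε else 0)
    (hz : ∀ m : Fin D.rank, T.co z.val m.val = if m = j then ε else 0)
    (h1 : r ≠ q) (h2 : r.val ≠ D.neg q.val) (hsgn : ∀ m < D.rank, 0 ≤ ε * T.co r.val m)
    (HasC : ↥(D.group F) → F → Prop) (hmul : ∀ {v w a b}, HasC v a → HasC w b → HasC (v * w) (a + b))
    (hone : HasC 1 0)
    (hmain : ∀ a, HasC (xG z a) a)
    (hrest : ∀ k : Fin D.nroots, k ≠ z → (∃ m : Fin D.rank, m ≠ i ∧ 0 < ε * T.co k.val m.val) →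
      ∀ a, HasC (xG k a) 0) (t : F) :
    ∃ p : F[X], p.natDegree ≤ (D.cartan i.val (D.simple j.val)).natAbs ∧
      ∀ e, HasC (xG q e * xG r t * (xG q e)⁻¹) (p.eval e) := by
  obtain ⟨m, hmi, hm⟩ : ∃ m : Fin D.rank, m ≠ i ∧ 0 < ε * T.co r.val m.val := by
    by_contra hcon
    push Not at hcon
    have hz0 : ∀ m : Fin D.rank, m ≠ i → T.co r.val m.val = 0 := fun m hm => by
      have a1 := hsgn m.val m.isLt
      have a2 := hcon m hm
      rcases hε with rfl | rfl <;> omega
    have hi0 := hsgn i.val i.isLt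
    -- a multiple of a simple root is that root or its negative
    have hr2 : r.val = D.simple i.val ∨ r.val = D.neg (D.simple i.val) := by
      by_contra hc
      push Not at hc
      by_cases hp : D.nroots / 2 ≤ r.val
      · obtain ⟨m, hm, hmi, hpos⟩ := K.chk.exists_other_support hp r.isLt i.isLt hc.1
        have := hz0 ⟨m, hm⟩ (fun e => hmi (congrArg Fin.val e))
        simp only at this
        omega
      · have hp' : D.nroots / 2 ≤ D.neg r.val := by
          rw [K.chk.neg_eq r.isLt]; have := K.chk.nroots_eq; omega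
        obtain ⟨m, hm, hmi, hpos⟩ := K.chk.exists_other_support hp' (K.chk.neg_lt r.isLt) i.isLt
          (fun e => hc.2 (by rw [← e, K.chk.neg_neg r.isLt]))
        have := hz0 ⟨m, hm⟩ (fun e => hmi (congrArg Fin.val e))
        rw [K.chk.co_neg r.isLt hm] at hpos
        simp only at this
        omega
    have hrq : r.val = q.val ∨ r.val = D.neg q.val := by
      have hsi := K.chk.simple_lt i.isLt
      have hqs : q.val = D.simple i.val ∨ q.val = D.neg (D.simple i.val) := by
        rcases hε with rfl | rfl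
        · right
          refine K.chk.co_inj q.isLt (K.chk.neg_lt hsi) fun m hm => ?_
          rw [K.chk.co_neg hsi hm, K.chk.co_simple i.isLt hm, hq ⟨m, hm⟩]
          simp [Fin.ext_iff]; split_ifs <;> simp
        · left
          refine K.chk.co_inj q.isLt hsi fun m hm => ?_
          rw [K.chk.co_simple i.isLt hm, hq ⟨m, hm⟩]
          simp [Fin.ext_iff]
      rcases hr2 with a | a <;> rcases hqs with b | b <;> rw [a, b] <;>
        simp [K.chk.neg_neg hsi]
    rcases hrq with a | a
    · exact h1 (Fin.ext a)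
    · exact h2 a
  obtain ⟨L, hL, hconj⟩ := exists_word K q r h1 h2 t
  set N := (D.cartan i.val (D.simple j.val)).natAbs
  have hstep : ∀ L' : List (Fin D.nroots × ℤ × ℕ × ℕ), (∀ c ∈ L', c ∈ L) →
      ∃ p : F[X], p.natDegree ≤ N ∧
        ∀ e, HasC (L'.map fun c => xG c.1 ((c.2.1 : F) * e ^ c.2.2.1 * t ^ c.2.2.2)).prod (p.eval e) := by
    intro L'
    induction L' with
    | nil => exact fun _ => ⟨0, by simp, fun e => by simpa using hone⟩
    | cons c L' ih =>
      intro hsub
      obtain ⟨p, hp, hp'⟩ := ih fun x hx => hsub x (List.mem_cons_of_mem _ hx)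
      obtain ⟨c1, c2, hco⟩ := hL c (hsub c List.mem_cons_self)
      by_cases hcz : c.1 = z
      · have hdeg : c.2.2.1 ≤ N := by
          have hall : ∀ l : Fin D.rank, (c.2.2.1 : ℤ) * T.co q.val l.val + (c.2.2.2 : ℤ) * T.co r.val l.val
              = if l = j then ε else 0 := fun l => by rw [← hco l.val l.isLt, hcz, hz]
          have hc2 : (c.2.2.2 : ℤ) = 1 := by
            have := hall j
            rw [hq, if_neg hij.symm, if_pos rfl, mul_zero, zero_add] at this
            rcases hε with rfl | rfl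
            · exact Int.eq_one_of_mul_eq_one_right (by positivity) this
            · exact Int.eq_one_of_mul_eq_one_right (b := -T.co r.val j.val) (by positivity)
                (by rw [mul_neg, this, neg_neg])
          refine coef_le K hij (r := r) ε hε _ fun l => ?_
          have := hall l
          rw [hq, hc2, one_mul] at this
          by_cases hlj : l = j
          · rw [if_pos hlj, if_neg (fun e => hij (e.symm.trans hlj)), mul_zero, zero_add] at this
            rw [if_pos hlj, this]
          · rw [if_neg hlj] at this ⊢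
            by_cases hli : l = i
            · rw [if_pos hli] at this ⊢; linarith
            · rw [if_neg hli] at this ⊢; linarith
        refine ⟨C ((c.2.1 : F) * t ^ c.2.2.2) * X ^ c.2.2.1 + p, ?_, fun e => ?_⟩
        · exact (natDegree_add_le _ _).trans (max_le ((natDegree_C_mul_X_pow_le _ _).trans hdeg) hp)
        · rw [List.map_cons, List.prod_cons, eval_add, eval_mul, eval_C, eval_pow, eval_X, hcz,
            show (c.2.1 : F) * e ^ c.2.2.1 * t ^ c.2.2.2 = (c.2.1 : F) * t ^ c.2.2.2 * e ^ c.2.2.1 by ring]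
          exact hmul (hmain _) (hp' e)
      · refine ⟨p, hp, fun e => ?_⟩
        rw [List.map_cons, List.prod_cons, ← zero_add (p.eval e)]
        refine hmul (hrest _ hcz ⟨m, hmi, ?_⟩ _) (hp' e)
        rw [hco m.val m.isLt, hq, if_neg hmi, mul_zero, zero_add, mul_left_comm]
        exact mul_pos (by exact_mod_cast c2) hm
  obtain ⟨p, hp, hp'⟩ := hstep L fun _ h => h
  by_cases hrz : r = z
  · refine ⟨C t + p, (natDegree_add_le _ _).trans (max_le (by simp) hp), fun e => ?_⟩
    rw [hconj e, eval_add, eval_C, hrz]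
    exact hmul (hmain t) (hp' e)
  · refine ⟨p, hp, fun e => ?_⟩
    rw [hconj e, ← zero_add (p.eval e)]
    exact hmul (hrest r hrz ⟨m, hmi, hm⟩ t) (hp' e)

end Conj

theorem sys_pos (r : Fin D.nroots) : (K.sys F).pos r ↔ D.nroots / 2 ≤ r.val := Iff.rfl

theorem chains (hG : Graph D) :
    Chains (split (F := F) K) fun i j => (D.cartan i.val (D.simple j.val)).natAbs := by
  classical
  have hA := K.axioms' (F := F)
  have hne : ∀ (r : Fin D.nroots) (m : Fin D.rank), (0 < T.co r.val m.val → D.nroots / 2 ≤ r.val) ∧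
      (T.co r.val m.val < 0 → r.val < D.nroots / 2) := fun r m => by
    constructor <;> intro h <;> by_contra hc
    · exact absurd (K.chk.co_nonpos (not_le.1 hc) m.isLt) (not_le.2 h)
    · exact absurd (K.chk.co_nonneg (not_lt.1 hc) r.isLt m.isLt) (not_le.2 h)
  refine ⟨fun i j _ => ?_, hG.sum_le, hG.conn, fun i j hij r hr hne' t => ?_, fun i j hij r hr hne' t => ?_⟩
  · show _ = (D.cartan i.val (ChevSys.sa K.W j).val).natAbs
    rw [show (ChevSys.sa K.W j).val = D.simple j.val from K.W.simple_eq j]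
  · refine exists_poly K hij (-1) (Or.inr rfl) (ChevSys.sa K.W i) (ChevSys.na K.W j) r
      (fun m => by rw [co_eq_sa K, neg_neg]) (fun m => co_eq_na K j m) ?_ ?_ ?_ ((split (F := F) K).HasV j)
      (fun h h' => h.mul _ hA h') ((split K).hasV_of_hat (one_mem _)) ((split K).hasV_x j) ?_ t
    · rintro rfl; exact hr (K.chk.simple_pos i.isLt |>.trans_eq (K.W.simple_eq i).symm)
    · exact fun e => hne' (Fin.ext e)
    · intro m hm
      have := K.chk.co_nonpos (not_le.1 hr) hm
      omega
    · rintro k hk ⟨m, -, hm⟩ a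
      refine (split K).hasV_of_hat (Subgroup.subset_closure ⟨k, ?_, hk, (split K).x_mem k a⟩)
      exact not_le.2 ((hne k m).2 (by omega))
  · refine exists_poly K hij 1 (Or.inl rfl) (ChevSys.na K.W i) (ChevSys.sa K.W j) r
      (fun m => co_eq_na K i m) (fun m => co_eq_sa K j m) ?_ ?_ ?_ ((split (F := F) K).HasU j)
      (fun h h' => h.mul _ hA h') ((split K).hasU_of_hat (one_mem _)) ((split K).hasU_x j) ?_ t
    · rintro rfl; exact hA.pos_neg _ |>.1 hr (hA.pos_a i)
    · intro e
      apply hne'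
      refine Fin.ext (e.trans ?_)
      exact K.chk.neg_neg (ChevSys.sa K.W i).isLt
    · intro m hm
      have := K.chk.co_nonneg hr r.isLt hm
      omega
    · rintro k hk ⟨m, -, hm⟩ a
      exact (split K).hasU_of_hat (Subgroup.subset_closure ⟨k, (hne k m).1 (by omega), hk, (split K).x_mem k a⟩)

end H21.ClassSquare.Exc
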