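import Cfsg.Agent.H21.ClassSquare.Exc.Inst
import Cfsg.Agent.H21.ClassSquare.Exc.Chain
import Cfsg.Agent.H66.BorelTitsChev
import Cfsg.Agent.H52.Simple

/-!
Products of two classes from a regular element of a Levi subgroup of type A.
-/

set_option autoImplicit false
set_option linter.unusedSectionVars false
set_option linter.style.haveILetI false

namespace H21.ClassSquare.Exc

open Cfsg Cfsg.Lie
open H53 (RootGroupSys ChevSys matSys)
open H53.RootGroupSys
open H41 H41.Reg
open Matrix (SpecialLinearGroup)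
open scoped MatrixGroups

/-- The degree of a root for a coweight. -/
def deg (D : ChevalleyDatum) (w : Fin D.rank → ℤ) (r : ℕ) : ℤ := ∑ i, w i * D.cartan i.val r

/-- The tabulated facts about a Levi subgroup of type `A_n` and a coweight. -/
structure LeviData (D : ChevalleyDatum) (n : ℕ) where
  graph : Graph D
  w : Fin D.rank → ℤ
  R : Fin (n + 1) → Fin (n + 1) → ℕ
  e : Fin (n + 1) → Fin (n + 1) → ℤ
  Jv : Fin n → Fin D.rank
  L : List (Fin D.rank)
  v : Fin D.rank → ℤ
  Ka : Finset (Fin D.rank)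
  Kb : Finset (Fin D.rank)
  W : Finset (Fin D.rank)
  sgn : ∀ i j, i ≠ j → e i j = 1 ∨ e i j = -1
  lt : ∀ i j, i ≠ j → R i j < D.nroots
  succ : ∀ i : Fin n, R i.castSucc i.succ = D.simple (Jv i).val ∧ R i.succ i.castSucc = D.neg (D.simple (Jv i).val)
    ∧ e i.castSucc i.succ = 1 ∧ e i.succ i.castSucc = 1
  pos : ∀ i j, i ≠ j → (D.nroots / 2 ≤ R i j ↔ i < j)
  inj : ∀ i j, i ≠ j → ∀ l : Fin n, R i j = D.simple (Jv l).val → i = l.castSucc ∧ j = l.succ
  Jinj : ∀ i j, Jv i = Jv j → i = j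
  degJ : ∀ i j, i ≠ j → deg D w (R i j) = 0
  deg0 : ∀ r < D.nroots, deg D w r = 0 → ∃ i j, i ≠ j ∧ R i j = r
  deg_le : ∀ r < D.nroots, (deg D w r).natAbs ≤ 7
  deg_pos : ∀ r < D.nroots, 0 < deg D w r → D.nroots / 2 ≤ r
  inner : ∀ i, ∃ j, L.foldr (fun (a : Fin D.rank) s => D.reflectRoot a.val s) (D.simple (Jv i).val) = D.simple (Jv j).val
  mirror : ∀ k : Fin D.rank,
    deg D w (L.foldr (fun (a : Fin D.rank) s => D.reflectRoot a.val s) (D.simple k.val)) = - deg D w (D.simple k.val)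
  dual : ∀ i : Fin n, ∑ k, v k * D.cartan k.val (D.simple (Jv i).val) = if i.val = 0 then 1 else 0
  cover : ∀ k, k ∈ Ka ∪ Kb ∨ ∃ i, Jv i = k
  disj : Disjoint Ka Kb
  Wdisj : Disjoint W (Ka ∪ Kb)
  hKa : ∀ i ∈ Ka, ∀ j ∈ Ka, i ≠ j → (D.cartan i.val (D.simple j.val)).natAbs = 0
  hKb : ∀ i ∈ Kb, ∀ j ∈ Kb ∪ W, i ≠ j → (D.cartan i.val (D.simple j.val)).natAbs = 0
  wit : n = 0 ∨ ∃ i, Jv i ∈ W

variable {D : ChevalleyDatum} {T : H52.Tables} {F : Type*} [Field F] (K : H52.BNData D T) {n : ℕ}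
  (V : LeviData D n)

/-- The prescribed values of a homomorphism from `SL` onto the Levi part. -/
def IsChain (φJ : SpecialLinearGroup (Fin (n + 1)) F →* ↥(D.group F)) : Prop :=
  ∀ (i j : Fin (n + 1)) (h : i ≠ j) (t : F),
    (φJ (Matrix.SpecialLinearGroup.transvection h t) : GL D.Idx F) = H52.rt D (V.R i j) ((V.e i j : F) * t)

include K in
/-- The degree is linear. -/
theorem deg_eq {r : ℕ} (hr : r < D.nroots) :
    deg D V.w r = ∑ m : Fin D.rank, T.co r m.val * deg D V.w (D.simple m.val) := by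
  simp only [deg, Finset.mul_sum]
  rw [Finset.sum_comm]
  refine Finset.sum_congr rfl fun i _ => ?_
  rw [K.chk.cartan_eq hr i.isLt, ← Fin.sum_univ_eq_sum_range (fun m => T.co r m * D.cartan i.val (D.simple m)),
    Finset.mul_sum]
  exact Finset.sum_congr rfl fun m _ => by ring

include K in
theorem deg_comb {r s u : ℕ} (hr : r < D.nroots) (hs : s < D.nroots) (hu : u < D.nroots) {i j : ℕ}
    (h : ∀ k < D.rank, T.co u k = (i : ℤ) * T.co r k + (j : ℤ) * T.co s k) :
    deg D V.w u = (i : ℤ) * deg D V.w r + (j : ℤ) * deg D V.w s := by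
  rw [deg_eq K V hu, deg_eq K V hr, deg_eq K V hs, Finset.mul_sum, Finset.mul_sum, ← Finset.sum_add_distrib]
  refine Finset.sum_congr rfl fun m _ => ?_
  rw [h m.val m.isLt]; ring

include K in
theorem deg_neg {r : ℕ} (hr : r < D.nroots) : deg D V.w (D.neg r) = - deg D V.w r := by
  simp only [deg, ← Finset.sum_neg_distrib]
  exact Finset.sum_congr rfl fun i _ => by rw [K.chk.cartan_neg i.isLt hr]; ring

/-- The roots of positive degree after a change of sign. -/
def PR (ε : ℤ) (r : ℕ) : Prop := r < D.nroots ∧ 0 < ε * deg D V.w r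

/-- The subgroup of the roots of positive (negative) degree. -/
noncomputable def UR (F : Type*) [Field F] (ε : ℤ) : Subgroup ↥(D.group F) :=
  (H52.genBy D F (PR V ε)).comap (D.group F).subtype

theorem x_mem_UR {ε : ℤ} (r : Fin D.nroots) (h : 0 < ε * deg D V.w r.val) (t : F) : xG r t ∈ UR V F ε :=
  H52.rt_mem_genBy (D := D) (F := F) (P := PR V ε) ⟨r.isLt, h⟩ t

section Degree0

variable [Fintype F] {φJ : SpecialLinearGroup (Fin (n + 1)) F →* ↥(D.group F)} (hφ : IsChain V φJ)

include hφ in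
theorem φJ_xG {i j : Fin (n + 1)} (h : i ≠ j) (t : F) :
    φJ (Matrix.SpecialLinearGroup.transvection h ((V.e i j : F) * t)) = xG ⟨V.R i j, V.lt i j h⟩ t := by
  apply Subtype.ext
  rw [hφ, coe_xG, ← mul_assoc]
  rcases V.sgn i j h with e | e <;> simp [e]

include hφ in
theorem φJ_transvection {i j : Fin (n + 1)} (h : i ≠ j) (t : F) :
    φJ (Matrix.SpecialLinearGroup.transvection h t) = xG ⟨V.R i j, V.lt i j h⟩ ((V.e i j : F) * t) :=
  Subtype.ext (hφ i j h t)

include hφ K in
theorem φJ_st (i : Fin n) (t : F) : φJ (st i t) = xG (ChevSys.sa K.W (V.Jv i)) t := by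
  rw [st, φJ_transvection V hφ, (V.succ i).2.2.1]
  refine Subtype.ext ?_
  rw [coe_xG, coe_xG, show (ChevSys.sa K.W (V.Jv i)).val = D.simple (V.Jv i).val from K.W.simple_eq _]
  simp [(V.succ i).1]

include hφ K in
theorem φJ_st' (i : Fin n) (t : F) : φJ (st' i t) = xG (ChevSys.na K.W (V.Jv i)) t := by
  rw [st', φJ_transvection V hφ, (V.succ i).2.2.2]
  refine Subtype.ext ?_
  rw [coe_xG, coe_xG, show (ChevSys.na K.W (V.Jv i)).val = D.neg (D.simple (V.Jv i).val) from
    congrArg D.neg (K.W.simple_eq _)]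
  simp [(V.succ i).2.1]

include hφ K in
theorem φJ_hst (i : Fin n) (x : Fˣ) : φJ (hst i (x : F)) = CC.phi K (Pi.mulSingle (V.Jv i) x) := by
  rw [← CC.hEl_eq K, hst]
  simp only [map_mul, φJ_st K V hφ, φJ_st' K V hφ, ChevSys.hEl, ChevSys.nEl, inv_neg, inv_one, neg_neg]

/-- `φJ` as a diagonal element. -/
theorem exists_diag (hφ : IsChain V φJ) (c : Fin D.rank → Fˣ) (hc : ∀ k ∈ V.Ka ∪ V.Kb, c k = 1) :
    ∃ Dg : SpecialLinearGroup (Fin (n + 1)) F,
      (Dg : Matrix (Fin (n + 1)) (Fin (n + 1)) F).IsDiag ∧ φJ Dg = CC.phi K c := by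
  classical
  let p : (Fin D.rank → Fˣ) → Prop := fun c => ∃ Dg : SpecialLinearGroup (Fin (n + 1)) F,
    (Dg : Matrix (Fin (n + 1)) (Fin (n + 1)) F).IsDiag ∧ φJ Dg = CC.phi K c
  have h1 : p 1 := ⟨1, Matrix.isDiag_one, by rw [map_one, map_one]⟩
  have hmul : ∀ a b, p a → p b → p (a * b) := by
    rintro a b ⟨A, hA, ea⟩ ⟨B, hB, eb⟩
    refine ⟨A * B, ?_, by rw [map_mul, map_mul, ea, eb]⟩
    show ((A : Matrix (Fin (n + 1)) (Fin (n + 1)) F) * (B : Matrix (Fin (n + 1)) (Fin (n + 1)) F)).IsDiag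
    rw [← hA.diagonal_diag, ← hB.diagonal_diag, Matrix.diagonal_mul_diagonal]
    exact Matrix.isDiag_diagonal _
  rw [← Finset.univ_prod_mulSingle c]
  refine Finset.prod_induction _ p hmul h1 fun k _ => ?_
  rcases V.cover k with hk | ⟨i, rfl⟩
  · rw [hc k hk, Pi.mulSingle_one]; exact h1
  · exact ⟨hst i (c (V.Jv i) : F), hst_diag i (c (V.Jv i)).ne_zero, φJ_hst K V hφ i _⟩

include hφ K in
theorem range_le_normalizer (ε : ℤ) : φJ.range ≤ (Subgroup.normalizer (UR V F ε : Set ↥(D.group F))) := by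
  rw [MonoidHom.range_eq_map, ← H37.closure_transvection_eq_top, MonoidHom.map_closure, Subgroup.closure_le]
  rintro _ ⟨_, ⟨i, j, h, c, rfl⟩, rfl⟩
  rw [φJ_transvection V hφ h, SetLike.mem_coe, Subgroup.mem_normalizer_iff]
  have key : ∀ t : F, ∀ g ∈ UR V F ε, xG ⟨V.R i j, V.lt i j h⟩ t * g * (xG ⟨V.R i j, V.lt i j h⟩ t)⁻¹ ∈ UR V F ε := by
    intro t g hg
    refine K.chk.rt_conj_genBy (P := PR V ε) (V.lt i j h) (fun s hs => hs.1) ?_ ?_ t hg
    · rintro ⟨-, h1⟩
      rw [deg_neg K V (V.lt i j h), V.degJ i j h] at h1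
      simp at h1
    · intro s u hs hu a b _ hb hco
      refine ⟨hu, ?_⟩
      rw [deg_comb K V (V.lt i j h) hs.1 hu hco, V.degJ i j h, mul_zero, zero_add, mul_left_comm]
      exact mul_pos (by exact_mod_cast hb) hs.2
  refine fun g => ⟨key _ g, fun hg => ?_⟩
  have h1 := key (-((V.e i j : F) * c)) _ hg
  rw [show xG (D := D) ⟨V.R i j, V.lt i j h⟩ (-((V.e i j : F) * c)) =
    (xG ⟨V.R i j, V.lt i j h⟩ ((V.e i j : F) * c))⁻¹ from (ChevSys.x_inv (rel K) _ _).symm] at h1
  simpa [mul_assoc] using h1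

include hφ K in
theorem conj_UR {ε : ℤ} {A : SpecialLinearGroup (Fin (n + 1)) F} {g : ↥(D.group F)} (hg : g ∈ UR V F ε) :
    φJ A * g * (φJ A)⁻¹ ∈ UR V F ε :=
  (Subgroup.mem_normalizer_iff.1 (range_le_normalizer K V hφ ε ⟨A, rfl⟩) g).1 hg

include hφ in
theorem exists_split (ε : ℤ) (hε : ε = 1 ∨ ε = -1) {y : ↥(D.group F)}
    (Q : Subgroup (SpecialLinearGroup (Fin (n + 1)) F))
    (hQ : ∀ i j (h : i ≠ j), (ε = 1 ↔ i < j) → ∀ t, Matrix.SpecialLinearGroup.transvection h t ∈ Q)
    (hy : y ∈ Subgroup.closure {g | ∃ r : Fin D.nroots, (ε = 1 ↔ D.nroots / 2 ≤ r.val) ∧ g ∈ (K.sys F).U r}) :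
    ∃ A ∈ Q, ∃ u ∈ UR V F ε, y = φJ A * u := by
  induction hy using Subgroup.closure_induction with
  | mem g hg =>
    obtain ⟨r, hr, hg⟩ := hg
    obtain ⟨t, rfl⟩ := ((split K).mem_U r g).1 hg
    by_cases h0 : deg D V.w r.val = 0
    · obtain ⟨i, j, hij, e⟩ := V.deg0 r.val r.isLt h0
      refine ⟨_, hQ i j hij ?_ ((V.e i j : F) * t), 1, one_mem _, ?_⟩
      · rw [hr, ← e]; exact V.pos i j hij
      · rw [mul_one, φJ_xG V hφ hij, split_x]
        exact Subtype.ext (by simp only [coe_xG, e])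
    · refine ⟨1, one_mem _, _, x_mem_UR V r ?_ t, by rw [map_one, one_mul, split_x]⟩
      rcases hε with rfl | rfl
      · by_contra hc
        have h1 : 0 < deg D V.w (D.neg r.val) := by rw [deg_neg K V r.isLt]; omega
        have h2 := V.deg_pos _ (K.chk.neg_lt r.isLt) h1
        have h3 := hr.1 rfl
        rw [K.chk.neg_eq r.isLt] at h2
        have := K.chk.nroots_eq
        omega
      · by_contra hc
        have h2 := V.deg_pos _ r.isLt (by omega)
        exact absurd (hr.2 h2) (by norm_num)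
  | one => exact ⟨1, one_mem _, 1, one_mem _, by rw [map_one, one_mul]⟩
  | mul a b _ _ ha hb =>
    obtain ⟨A, hA, u, hu, rfl⟩ := ha
    obtain ⟨B, hB, u', hu', rfl⟩ := hb
    refine ⟨A * B, mul_mem hA hB, φJ B⁻¹ * u * (φJ B⁻¹)⁻¹ * u', mul_mem (conj_UR K V hφ hu) hu', ?_⟩
    rw [map_mul, map_inv, inv_inv]; group
  | inv a _ ha =>
    obtain ⟨A, hA, u, hu, rfl⟩ := ha
    refine ⟨A⁻¹, inv_mem hA, φJ A * u⁻¹ * (φJ A)⁻¹, conj_UR K V hφ (inv_mem hu), ?_⟩
    rw [map_inv]; group

/-- Upper unitriangular elements. -/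
def upperUni (F : Type*) [Field F] (n : ℕ) : Subgroup (SpecialLinearGroup (Fin (n + 1)) F) :=
  Subgroup.closure {g | ∃ (i j : Fin (n + 1)) (h : i ≠ j) (t : F), i < j ∧
    g = Matrix.SpecialLinearGroup.transvection h t}

/-- Lower unitriangular elements. -/
def lowerUni (F : Type*) [Field F] (n : ℕ) : Subgroup (SpecialLinearGroup (Fin (n + 1)) F) :=
  Subgroup.closure {g | ∃ (i j : Fin (n + 1)) (h : i ≠ j) (t : F), j < i ∧
    g = Matrix.SpecialLinearGroup.transvection h t}

theorem lowerUni_tri {A : SpecialLinearGroup (Fin (n + 1)) F} (hA : A ∈ lowerUni F n) :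
    (A : Matrix (Fin (n + 1)) (Fin (n + 1)) F).BlockTriangular OrderDual.toDual := by
  induction hA using Subgroup.closure_induction_left with
  | one => exact Matrix.blockTriangular_one
  | mul_left x hx y _ hy =>
    obtain ⟨i, j, h, t, hij, rfl⟩ := hx
    exact (Matrix.blockTriangular_transvection (b := OrderDual.toDual) (le_of_lt hij) t).mul hy
  | inv_mul_cancel x hx y _ hy =>
    obtain ⟨i, j, h, t, hij, rfl⟩ := hx
    rw [Matrix.SpecialLinearGroup.transvection_inv]
    exact (Matrix.blockTriangular_transvection (b := OrderDual.toDual) (le_of_lt hij) (-t)).mul hy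

include hφ in
theorem hasU_upper {A : SpecialLinearGroup (Fin (n + 1)) F} (hA : A ∈ upperUni F n) :
    ((A : Matrix (Fin (n + 1)) (Fin (n + 1)) F).BlockTriangular id ∧
      ∀ i, (A : Matrix (Fin (n + 1)) (Fin (n + 1)) F) i i = 1) ∧
    ∀ l : Fin n, (split K).HasU (V.Jv l) (φJ A) ((A : Matrix (Fin (n + 1)) (Fin (n + 1)) F) l.castSucc l.succ) := by
  have hA' := hA
  have hStep : ∀ (i j : Fin (n + 1)) (h : i ≠ j) (t : F), i < j → ∀ B : SpecialLinearGroup (Fin (n + 1)) F,
      ((B : Matrix (Fin (n + 1)) (Fin (n + 1)) F).BlockTriangular id ∧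
        ∀ i, (B : Matrix (Fin (n + 1)) (Fin (n + 1)) F) i i = 1) ∧
      (∀ l : Fin n, (split K).HasU (V.Jv l) (φJ B) ((B : Matrix (Fin (n + 1)) (Fin (n + 1)) F) l.castSucc l.succ)) →
      (((Matrix.SpecialLinearGroup.transvection h t * B : SpecialLinearGroup (Fin (n + 1)) F) :
          Matrix (Fin (n + 1)) (Fin (n + 1)) F).BlockTriangular id ∧
        ∀ i', ((Matrix.SpecialLinearGroup.transvection h t * B : SpecialLinearGroup (Fin (n + 1)) F) :
          Matrix (Fin (n + 1)) (Fin (n + 1)) F) i' i' = 1) ∧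
      ∀ l : Fin n, (split K).HasU (V.Jv l) (φJ (Matrix.SpecialLinearGroup.transvection h t * B))
        (((Matrix.SpecialLinearGroup.transvection h t * B : SpecialLinearGroup (Fin (n + 1)) F) :
          Matrix (Fin (n + 1)) (Fin (n + 1)) F) l.castSucc l.succ) := by
    intro i j h t hij B ⟨⟨hBt, hBd⟩, hBu⟩
    have hco : ((Matrix.SpecialLinearGroup.transvection h t * B : SpecialLinearGroup (Fin (n + 1)) F) :
        Matrix (Fin (n + 1)) (Fin (n + 1)) F) = Matrix.transvection i j t * (B : Matrix (Fin (n + 1)) (Fin (n + 1)) F) := rfl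
    refine ⟨⟨?_, fun i' => ?_⟩, fun l => ?_⟩
    · rw [hco]
      exact (Matrix.blockTriangular_transvection (b := id) (le_of_lt hij) t).mul hBt
    · rw [hco]
      by_cases hi : i' = i
      · subst hi
        rw [Matrix.transvection_mul_apply_same, hBd, hBt (show id i' < id j from hij), mul_zero, add_zero]
      · rw [Matrix.transvection_mul_apply_of_ne _ _ _ _ hi, hBd]
    · rw [hco, map_mul]
      have hx : (split K).HasU (V.Jv l) (φJ (Matrix.SpecialLinearGroup.transvection h t))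
          (if i = l.castSucc ∧ j = l.succ then t else 0) := by
        rw [φJ_transvection V hφ h]
        split_ifs with he
        · obtain ⟨rfl, rfl⟩ := he
          rw [(V.succ l).2.2.1, Int.cast_one, one_mul]
          have := (split (F := F) K).hasU_x (V.Jv l) t
          rwa [show (⟨V.R l.castSucc l.succ, V.lt _ _ h⟩ : Fin D.nroots) = (K.sys F).a (V.Jv l) from
            Fin.ext ((V.succ l).1.trans (K.W.simple_eq _).symm)]
        · refine (split K).hasU_of_hat (Subgroup.subset_closure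
            ⟨⟨V.R i j, V.lt i j h⟩, (V.pos i j h).2 hij, ?_, (split K).x_mem _ _⟩)
          exact fun e => he (V.inj i j h l ((congrArg Fin.val e).trans (K.W.simple_eq _)))
      have hcomb := hx.mul _ (K.axioms' (F := F)) (hBu l)
      convert hcomb using 1
      by_cases hi : l.castSucc = i
      · subst hi
        rw [Matrix.transvection_mul_apply_same]
        by_cases hj : j = l.succ
        · subst hj; rw [if_pos ⟨rfl, rfl⟩, hBd]; ring
        · have hjl : l.succ < j := by
            rcases lt_trichotomy l.succ j with h' | h' | h'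
            · exact h'
            · exact absurd h'.symm hj
            · exfalso
              have h1 : l.val < j.val := hij
              have h2 : j.val < l.val + 1 := Fin.lt_def.1 h'
              omega
          rw [if_neg (fun e => hj e.2), hBt (show id l.succ < id j from hjl), mul_zero, add_zero, zero_add]
      · rw [Matrix.transvection_mul_apply_of_ne _ _ _ _ hi, if_neg (fun e => hi e.1.symm), zero_add]
  induction hA' using Subgroup.closure_induction_left with
  | one =>
    refine ⟨⟨Matrix.blockTriangular_one, fun i => Matrix.one_apply_eq i⟩, fun l => ?_⟩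
    rw [map_one, Matrix.SpecialLinearGroup.coe_one, Matrix.one_apply_ne (castSucc_ne_succ' l)]
    exact (split K).hasU_of_hat (one_mem _)
  | mul_left x hx y hy' hy =>
    obtain ⟨i, j, h, t, hij, rfl⟩ := hx
    exact hStep i j h t hij y (hy hy')
  | inv_mul_cancel x hx y hy' hy =>
    obtain ⟨i, j, h, t, hij, rfl⟩ := hx
    rw [Matrix.SpecialLinearGroup.transvection_inv]
    exact hStep i j h (-t) hij y (hy hy')

end Degree0

section Mirror

include K in
theorem deg_word (L : List (Fin D.rank)) {r : ℕ} (hr : r < D.nroots) :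
    L.foldr (fun (a : Fin D.rank) s => D.reflectRoot a.val s) r < D.nroots ∧
      ∀ k < D.rank, T.co (L.foldr (fun (a : Fin D.rank) s => D.reflectRoot a.val s) r) k =
        ∑ m : Fin D.rank, T.co r m.val *
          T.co (L.foldr (fun (a : Fin D.rank) s => D.reflectRoot a.val s) (D.simple m.val)) k := by
  induction L with
  | nil =>
    refine ⟨hr, fun k hk => ?_⟩
    rw [Finset.sum_eq_single ⟨k, hk⟩]
    · simp [K.chk.co_simple hk hk]
    · intro m _ hm
      simp only [List.foldr_nil]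
      rw [K.chk.co_simple m.isLt hk, if_neg fun e => hm (Fin.ext e.symm), mul_zero]
    · simp
  | cons a L ih =>
    obtain ⟨hlt, hco⟩ := ih
    have hm : ∀ m : Fin D.rank, L.foldr (fun (a : Fin D.rank) s => D.reflectRoot a.val s) (D.simple m.val) < D.nroots := by
      intro m
      clear hlt hco
      induction L with
      | nil => exact K.chk.simple_lt m.isLt
      | cons b L ih => exact K.chk.reflect_lt b.isLt ih
    refine ⟨K.chk.reflect_lt a.isLt hlt, fun k hk => ?_⟩
    simp only [List.foldr_cons]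
    rw [K.chk.co_reflect a.isLt hlt hk, hco k hk]
    by_cases hka : k = a.val
    · rw [if_pos hka, K.chk.cartan_eq hlt a.isLt]
      simp_rw [fun m => K.chk.co_reflect a.isLt (hm m) hk, if_pos hka, mul_sub, Finset.sum_sub_distrib]
      congr 1
      simp only [fun m => K.chk.cartan_eq (hm m) a.isLt, Finset.mul_sum]
      rw [Finset.sum_comm]
      refine Finset.sum_congr rfl fun l hl => ?_
      rw [hco l (Finset.mem_range.1 hl), Finset.sum_mul]
      exact Finset.sum_congr rfl fun m _ => by ring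
    · rw [if_neg hka, sub_zero]
      refine Finset.sum_congr rfl fun m _ => ?_
      rw [K.chk.co_reflect a.isLt (hm m) hk, if_neg hka, sub_zero]

include K in
theorem deg_mirror {r : ℕ} (hr : r < D.nroots) :
    deg D V.w (V.L.foldr (fun (a : Fin D.rank) s => D.reflectRoot a.val s) r) = - deg D V.w r := by
  obtain ⟨hlt, hco⟩ := deg_word K V.L hr
  rw [deg_eq K V hlt, deg_eq K V hr, ← Finset.sum_neg_distrib]
  simp only [fun k : Fin D.rank => hco k.val k.isLt, Finset.sum_mul]
  rw [Finset.sum_comm]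
  refine Finset.sum_congr rfl fun m _ => ?_
  have hm := (deg_word K V.L (K.chk.simple_lt m.isLt)).1
  rw [← mul_neg, ← V.mirror m, deg_eq K V hm, Finset.mul_sum]
  exact Finset.sum_congr rfl fun k _ => by ring

end Mirror

end H21.ClassSquare.Exc
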