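import Cfsg.Agent.H21.ClassSquare.Exc.Square

/-!
Every element of the group is a product of two conjugates of `z J`.
-/

set_option autoImplicit false
set_option linter.unusedSectionVars false
set_option linter.style.haveILetI false

namespace H21.ClassSquare.Exc

open Cfsg Cfsg.Lie
open H53 (RootGroupSys ChevSys matSys)
open H53.RootGroupSys
open H41 H41.Reg
open Matrix (SpecialLinearGroup)
open scoped MatrixGroups

variable {D : ChevalleyDatum} {T : H52.Tables} {F : Type*} [Field F] [Fintype F] (K : H52.BNData D T) {n : ℕ}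
  (V : LeviData D n)

theorem fixed_neg (hc0 : Subgroup.center ↥(D.group F) = ⊥) {s : Fˣ}
    (hs : ∀ m : ℤ, m.natAbs ≤ 7 → s ^ m = 1 → m = 0) {u : ↥(D.group F)}
    (hu : u ∈ UR V F (-1)) (hc : Commute (zel K V s) u) : u = 1 := by
  have hmap : (UR V F (-1)).map (MulAut.conj (nmir K V F)).toMonoidHom ≤ UR V F 1 := by
    rw [UR_eq (ε := -1), MonoidHom.map_closure, Subgroup.closure_le]
    rintro _ ⟨_, ⟨r, t, h, rfl⟩, rfl⟩
    obtain ⟨r', c, -, he, hn⟩ := nmir_conj K V (F := F) r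
    simp only [MulEquiv.coe_toMonoidHom, MulAut.conj_apply, hn, SetLike.mem_coe]
    refine x_mem_UR V r' ?_ _
    rw [he, deg_mirror K V r.isLt]
    omega
  have h1 : Commute (zel K V s)⁻¹ (nmir K V F * u * (nmir K V F)⁻¹) := by
    rw [← nmir_zel K V hc0 s]
    exact (Commute.conj_iff (nmir K V F)).2 hc
  have := fixed_pos K V hs (hmap ⟨u, hu, rfl⟩) (by simpa using h1.inv_left)
  simpa using this

variable {φJ : SpecialLinearGroup (Fin (n + 1)) F →* ↥(D.group F)} (hφ : IsChain V φJ)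

theorem zel_mem_normalizer (ε : ℤ) (s : Fˣ) {g : ↥(D.group F)} (hg : g ∈ UR V F ε) :
    zel K V s * g * (zel K V s)⁻¹ ∈ UR V F ε := by
  have hd : H52.torus D (fun k => s ^ V.w k) ∈ D.diagonalSubgroup F := by
    rw [K.chk.diagonalSubgroup_eq]; exact ⟨_, rfl⟩
  have h := K.chk.diag_mem_normalizer_genBy (P := PR V ε) (fun _ hr => hr.1) hd
  exact (Subgroup.mem_normalizer_iff.1 h _).1 hg

include hφ in
/-- Absorption into the class. -/
theorem absorb_zel (hc0 : Subgroup.center ↥(D.group F) = ⊥) {s : Fˣ}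
    (hs : ∀ m : ℤ, m.natAbs ≤ 7 → s ^ m = 1 → m = 0) (hsq : s ^ Fintype.card F = s) (ε : ℤ)
    (hε : ε = 1 ∨ ε = -1) (X : SpecialLinearGroup (Fin (n + 1)) F) (hX : IsConj (jordanGL F (n + 1)) X.toGL)
    {u : ↥(D.group F)} (hu : u ∈ UR V F ε) :
    IsConj (zel K V s * φJ X) (u * (zel K V s * φJ X)) ∧ IsConj (zel K V s * φJ X) (zel K V s * φJ X * u) := by
  classical
  haveI : Finite ↥(D.group F) := inferInstance
  refine absorb (UR V F ε) (fun v hv => ?_) (fun v hv hcv => ?_) hu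
  · have h1 := zel_mem_normalizer K V ε s (conj_UR K V hφ (A := X) hv)
    simpa [mul_assoc] using h1
  · set N := Fintype.card F ^ (n + 1)
    have hpow : (zel K V s * φJ X) ^ N = zel K V s := by
      have hz : ∀ m : ℕ, s ^ (Fintype.card F ^ m) = s := by
        intro m
        induction m with
        | zero => simp
        | succ m ih => rw [pow_succ, pow_mul, ih, hsq]
      rw [(zel_comm K V hφ s X).mul_pow, ← map_pow φJ, pow_card_eq_one X hX, map_one, mul_one, zel, ← map_pow]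
      congr 1
      funext k
      rw [Pi.pow_apply, ← zpow_natCast, ← zpow_mul, mul_comm, zpow_mul, zpow_natCast, hz]
    have hc : Commute (zel K V s) v := hpow ▸ (show Commute (zel K V s * φJ X) v from hcv).pow_left N
    rcases hε with rfl | rfl
    · exact fixed_pos K V hs hv hc
    · exact fixed_neg K V hc0 hs hv hc

theorem UR_le_Uhat (i : Fin n) : UR V F 1 ≤ (K.sys F).Uhat (V.Jv i) := by
  rw [UR_eq, Subgroup.closure_le]
  rintro _ ⟨r, t, h, rfl⟩
  rw [one_mul] at h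
  refine Subgroup.subset_closure ⟨r, V.deg_pos r.val r.isLt h, fun e => ?_, (split K).x_mem r t⟩
  have h1 : deg D V.w r.val = 0 := by
    rw [congrArg Fin.val e]
    show deg D V.w (ChevSys.sa K.W (V.Jv i)).val = 0
    rw [show (ChevSys.sa K.W (V.Jv i)).val = D.simple (V.Jv i).val from K.W.simple_eq _, ← (V.succ i).1]
    exact V.degJ _ _ (castSucc_ne_succ' i)
  omega

include hφ in
theorem exists_upper {u : ↥(D.group F)} (hu : u ∈ (K.sys F).Uplus) {b : Fin D.rank → F}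
    (hb : ∀ k, (split K).HasU k u (b k)) :
    ∃ (A : SpecialLinearGroup (Fin (n + 1)) F) (uR : ↥(D.group F)), uR ∈ UR V F 1 ∧ u = φJ A * uR ∧
      ∀ i : Fin n, (A : Matrix (Fin (n + 1)) (Fin (n + 1)) F) i.castSucc i.succ = b (V.Jv i) := by
  obtain ⟨A, hA, uR, huR, e⟩ := exists_split K V hφ 1 (Or.inl rfl) (upperUni F n)
    (fun i j h hij t => Subgroup.subset_closure ⟨i, j, h, t, hij.1 rfl, rfl⟩)
    (y := u) (by
      refine Subgroup.closure_mono ?_ hu
      rintro g ⟨r, hr, hg⟩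
      exact ⟨r, ⟨fun _ => hr, fun _ => rfl⟩, hg⟩)
  refine ⟨A, uR, huR, e, fun i => ?_⟩
  have hA' := K.axioms' (F := F)
  have h1 := ((hasU_upper K V hφ hA).2 i).mul _ hA' ((split K).hasU_of_hat (UR_le_Uhat K V i huR))
  rw [add_zero, ← e] at h1
  exact h1.unique _ hA' (K.sep (F := F)) (hb (V.Jv i))

include hφ in
theorem exists_lower {v : ↥(D.group F)} (hv : v ∈ (K.sys F).Uminus) :
    ∃ (B : SpecialLinearGroup (Fin (n + 1)) F) (vR : ↥(D.group F)), vR ∈ UR V F (-1) ∧ v = vR * φJ B ∧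
      (B : Matrix (Fin (n + 1)) (Fin (n + 1)) F).BlockTriangular OrderDual.toDual := by
  obtain ⟨B, hB, w, hw, e⟩ := exists_split K V hφ (-1) (Or.inr rfl) (lowerUni F n)
    (fun i j h hij t => Subgroup.subset_closure ⟨i, j, h, t,
      lt_of_le_of_ne (not_lt.1 fun hlt => absurd (hij.2 hlt) (by norm_num)) h.symm, rfl⟩)
    (y := v) (by
      refine Subgroup.closure_mono ?_ hv
      rintro g ⟨r, hr, hg⟩
      exact ⟨r, ⟨fun hh => absurd hh (by norm_num), fun hp => absurd hp hr⟩, hg⟩)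
  exact ⟨B, φJ B * w * (φJ B)⁻¹, conj_UR K V hφ hw, by rw [e]; group, lowerUni_tri hB⟩

include hφ in
theorem two_c0 (hq : 9 ≤ Fintype.card F) (hr : 0 < D.rank) (hc0 : Subgroup.center ↥(D.group F) = ⊥) {s : Fˣ}
    (hs : ∀ m : ℤ, m.natAbs ≤ 7 → s ^ m = 1 → m = 0) (hsq : s ^ Fintype.card F = s) {g : ↥(D.group F)}
    (hg : g ≠ 1) : Two (zel K V s * φJ (uni F n)) g := by
  classical
  set z := zel K V s
  have hA := K.axioms' (F := F)
  obtain ⟨a, c, b, ⟨y, ⟨v, u, hv, hu, hgc⟩⟩, hc, hb⟩ := exists_target hA (K.sep (F := F)) (chains K V.graph) hq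
    (g := g) (by rw [hc0]; simpa using hg) V.Ka V.Kb V.W (fun k => s ^ V.w k * s ^ V.w k) V.disj V.Wdisj V.hKa V.hKb
  obtain ⟨A, uR, huR, eu, hAb⟩ := exists_upper K V hφ ((hu ⟨0, hr⟩).mem _ hA) hu
  obtain ⟨B, vR, hvR, ev, hB⟩ := exists_lower K V hφ ((hv ⟨0, hr⟩).mem _ hA)
  obtain ⟨Dg, hDg, eD⟩ := exists_diag K V hφ (fun k => c k * (s ^ V.w k * s ^ V.w k)⁻¹)
    (fun k hk => by simp only [hc k hk, mul_inv_cancel])
  have ec : CC.phi K c = z * z * φJ Dg := by
    rw [eD]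
    simp only [z, zel, ← map_mul]
    congr 1
    funext k
    rw [Pi.mul_apply, Pi.mul_apply, mul_comm, inv_mul_cancel_right]
  set M := B * Dg * A with hM
  have hns : n = 0 ∨ ∀ μ : F, (M : Matrix (Fin (n + 1)) (Fin (n + 1)) F) ≠ μ • 1 := by
    refine V.wit.imp id fun ⟨i, hi⟩ μ => ?_
    refine not_scalar hB hDg (?_) i (by rw [hAb]; exact hb _ hi) μ
    rw [Matrix.det_mul, B.2, Dg.2, one_mul]
    exact isUnit_one
  obtain ⟨x, x', hxx⟩ := pair_jordan (by omega) M.toGL M.2 hns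
  have hdetJ : ∀ x : GL (Fin (n + 1)) F,
      ((x * jordanGL F (n + 1) * x⁻¹ : GL (Fin (n + 1)) F) : Matrix (Fin (n + 1)) (Fin (n + 1)) F).det = 1 := by
    intro x
    rw [Units.val_mul, Units.val_mul, Matrix.det_units_conj, coe_jordanGL, det_jordan]
  let X : SpecialLinearGroup (Fin (n + 1)) F := ⟨_, hdetJ x⟩
  let Y : SpecialLinearGroup (Fin (n + 1)) F := ⟨_, hdetJ x'⟩
  have hX : IsConj (jordanGL F (n + 1)) (Matrix.SpecialLinearGroup.toGL X) :=
    isConj_iff.2 ⟨x, Units.ext rfl⟩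
  have hY : IsConj (jordanGL F (n + 1)) (Matrix.SpecialLinearGroup.toGL Y) :=
    isConj_iff.2 ⟨x', Units.ext rfl⟩
  have hXY : M = X * Y := Matrix.SpecialLinearGroup.toGL_injective (hxx.trans (Units.ext rfl))
  refine Two.of_conj y ?_
  rw [hgc]
  have e : v * (split K).φ c * u = (vR * (z * φJ X)) * (z * φJ Y * uR) := by
    rw [split_φ, eu, ev, ec]
    have h1 : φJ B * φJ Dg * φJ A = φJ X * φJ Y := by rw [← map_mul, ← map_mul, ← map_mul, ← hM, hXY]
    have hzB : φJ B * (z * z) = z * z * φJ B :=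
      (((zel_comm K V hφ s B).mul_left (zel_comm K V hφ s B)).symm).eq
    have hzX : z * φJ X = φJ X * z := (zel_comm K V hφ s X).eq
    calc vR * φJ B * (z * z * φJ Dg) * (φJ A * uR) = vR * (φJ B * (z * z)) * φJ Dg * φJ A * uR := by group
      _ = vR * (z * z) * (φJ B * φJ Dg * φJ A) * uR := by rw [hzB]; group
      _ = vR * z * (z * φJ X) * φJ Y * uR := by rw [h1]; group
      _ = vR * z * (φJ X * z) * φJ Y * uR := by rw [hzX]
      _ = _ := by group
  rw [e]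
  exact two_of_isConj
    ((isConj_c0 K V hφ s X hX).trans (absorb_zel K V hφ hc0 hs hsq (-1) (Or.inr rfl) X hX hvR).1)
    ((isConj_c0 K V hφ s Y hY).trans (absorb_zel K V hφ hc0 hs hsq 1 (Or.inl rfl) Y hY huR).2)

include hφ in
theorem real_c0 (hc0 : Subgroup.center ↥(D.group F) = ⊥) (s : Fˣ) :
    IsConj (zel K V s * φJ (uni F n)) (zel K V s * φJ (uni F n))⁻¹ := by
  obtain ⟨X, hX, eX⟩ := nmir_uni K V hφ
  obtain ⟨y, hy, ey⟩ := exists_conj_uni K V hφ s X hX
  obtain ⟨y', hy', ey'⟩ := exists_conj_uni K V hφ s _ (isConj_uni_inv (F := F) (n := n))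
  rw [map_inv] at ey'
  have hnz := nmir_zel K V hc0 s
  have hq : (zel K V s)⁻¹ * (φJ (uni F n))⁻¹ = (zel K V s * φJ (uni F n))⁻¹ := by
    rw [← mul_inv_rev, (zel_comm K V hφ s (uni F n)).eq]
  have hYc : Commute (zel K V s)⁻¹ (y' * y⁻¹) := (hy'.mul_right hy.inv_right).inv_left
  rw [← hq]
  refine isConj_iff.2 ⟨y' * y⁻¹ * nmir K V F, ?_⟩
  generalize nmir K V F = m at hnz eX ⊢
  generalize zel K V s = z at hnz hYc ⊢
  calc y' * y⁻¹ * m * (z * φJ (uni F n)) * (y' * y⁻¹ * m)⁻¹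
      = y' * y⁻¹ * ((m * z * m⁻¹) * (m * φJ (uni F n) * m⁻¹)) * (y' * y⁻¹)⁻¹ := by group
    _ = (y' * y⁻¹ * z⁻¹) * φJ X * (y' * y⁻¹)⁻¹ := by rw [hnz, eX]; group
    _ = z⁻¹ * (y' * y⁻¹ * φJ X * (y' * y⁻¹)⁻¹) := by rw [← hYc.eq]; group
    _ = _ := by rw [← ey, ← ey']; group

end H21.ClassSquare.Exc
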