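import Cfsg.Agent.H21.ClassSquare.Exc.Split

/-!
Moving the torus part and the simple components of an element of the big cell by rank one conjugations.
-/

set_option autoImplicit false
set_option linter.unusedSectionVars false
set_option linter.style.haveILetI false

namespace H21.ClassSquare.Exc

open H53 (RootGroupSys)
open H53.RootGroupSys
open Polynomial

variable {G : Type*} [Group G] {ι R : Type*} {S : RootGroupSys G ι R} {F : Type*} [Field F] [Fintype ι]
  [DecidableEq ι] (P : Split S F)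

/-- Bounds on the effect of simple root elements on the neighbouring components. -/
structure Chains (d : ι → ι → ℕ) : Prop where
  eq : ∀ i j, i ≠ j → d i j = (P.A i (S.a j)).natAbs
  sum_le : ∀ i, ∑ j ∈ Finset.univ.erase i, d i j ≤ 3
  conn : ∀ s : Finset ι, s.Nonempty → s ≠ Finset.univ → ∃ i ∈ s, ∃ j ∉ s, d i j ≠ 0
  negSide : ∀ i j, i ≠ j → ∀ r, ¬ S.pos r → r ≠ S.neg (S.a i) → ∀ t, ∃ p : F[X], p.natDegree ≤ d i j ∧
    ∀ e, P.HasV j (P.x (S.a i) e * P.x r t * (P.x (S.a i) e)⁻¹) (p.eval e)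
  posSide : ∀ i j, i ≠ j → ∀ r, S.pos r → r ≠ S.a i → ∀ t, ∃ p : F[X], p.natDegree ≤ d i j ∧
    ∀ e, P.HasU j (P.x (S.neg (S.a i)) e * P.x r t * (P.x (S.neg (S.a i)) e)⁻¹) (p.eval e)

variable {P} (hS : S.Axioms) (hsep : Sep S) {d : ι → ι → ℕ} (hd : Chains P d)

namespace Split

include hS in
theorem HasV.inv {i : ι} {v : G} {a : F} (h : P.HasV i v a) : P.HasV i v⁻¹ (-a) := by
  obtain ⟨v', hv', rfl⟩ := h
  refine ⟨P.x (S.neg (S.a i)) (-a) * v'⁻¹ * (P.x (S.neg (S.a i)) (-a))⁻¹,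
    P.a_conj_UhatN hS i (P.x_mem _ _) (inv_mem hv'), ?_⟩
  rw [P.x_neg]; group

include hS in
theorem HasU.inv {i : ι} {u : G} {b : F} (h : P.HasU i u b) : P.HasU i u⁻¹ (-b) := by
  obtain ⟨u', hu', rfl⟩ := h
  refine ⟨P.x (S.a i) b * u'⁻¹ * (P.x (S.a i) b)⁻¹,
    Ua_conj_Uhat hS i (P.x_mem _ _) (inv_mem hu'), ?_⟩
  rw [P.x_neg]; group

include hS in
theorem negA_conj_Uhat (P : Split S F) (i : ι) {x g : G} (hx : x ∈ S.U (S.neg (S.a i))) (hg : g ∈ S.Uhat i) :
    x * g * x⁻¹ ∈ S.Uhat i := by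
  have h1 := n_conj_Uhat hS i hg
  have hx' : S.n i * x * (S.n i)⁻¹ ∈ S.U (S.a i) := by
    have := acts_conj_mem (acts_n hS i) hx
    rwa [hS.sigma_neg, hS.sigma_a, P.neg_neg] at this
  have := n_inv_conj_Uhat hS i (Ua_conj_Uhat hS i hx' h1)
  simpa [mul_assoc] using this

end Split

open Split

include hS hd in
theorem exists_polyV {i j : ι} (hij : i ≠ j) {w : G} (hw : w ∈ UhatN S i) :
    ∃ p : F[X], p.natDegree ≤ d i j ∧ ∀ e, P.HasV j (P.x (S.a i) e * w * (P.x (S.a i) e)⁻¹) (p.eval e) := by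
  induction hw using Subgroup.closure_induction with
  | mem y hy =>
    obtain ⟨r, hr, hne, hy⟩ := hy
    obtain ⟨t, rfl⟩ := (P.mem_U _ _).1 hy
    exact hd.negSide i j hij r hr hne t
  | one => exact ⟨0, by simp, fun e => by simpa using P.hasV_of_hat (i := j) (one_mem _)⟩
  | mul y z _ _ hy hz =>
    obtain ⟨p, hp, hp'⟩ := hy
    obtain ⟨p₂, hp₂, hp₂'⟩ := hz
    refine ⟨p + p₂, (natDegree_add_le _ _).trans (max_le hp hp₂), fun e => ?_⟩
    rw [eval_add, ← conj_mul]
    exact (hp' e).mul P hS (hp₂' e)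
  | inv y _ hy =>
    obtain ⟨p, hp, hp'⟩ := hy
    refine ⟨-p, by rwa [natDegree_neg], fun e => ?_⟩
    rw [eval_neg, ← conj_inv]
    exact (hp' e).inv hS

include hS hd in
theorem exists_polyU {i j : ι} (hij : i ≠ j) {w : G} (hw : w ∈ S.Uhat i) :
    ∃ p : F[X], p.natDegree ≤ d i j ∧
      ∀ e, P.HasU j (P.x (S.neg (S.a i)) e * w * (P.x (S.neg (S.a i)) e)⁻¹) (p.eval e) := by
  induction hw using Subgroup.closure_induction with
  | mem y hy =>
    obtain ⟨r, hr, hne, hy⟩ := hy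
    obtain ⟨t, rfl⟩ := (P.mem_U _ _).1 hy
    exact hd.posSide i j hij r hr hne t
  | one => exact ⟨0, by simp, fun e => by simpa using P.hasU_of_hat (i := j) (one_mem _)⟩
  | mul y z _ _ hy hz =>
    obtain ⟨p, hp, hp'⟩ := hy
    obtain ⟨p₂, hp₂, hp₂'⟩ := hz
    refine ⟨p + p₂, (natDegree_add_le _ _).trans (max_le hp hp₂), fun e => ?_⟩
    rw [eval_add, ← conj_mul]
    exact (hp' e).mul P hS (hp₂' e)
  | inv y _ hy =>
    obtain ⟨p, hp, hp'⟩ := hy
    refine ⟨-p, by rwa [natDegree_neg], fun e => ?_⟩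
    rw [eval_neg, ← conj_inv]
    exact (hp' e).inv hS

variable (P) in
/-- An element of the big cell with its simple components. -/
structure Cell (g : G) (a : ι → F) (c : ι → Fˣ) (b : ι → F) : Prop where
  ex : ∃ v u, (∀ i, P.HasV i v (a i)) ∧ (∀ i, P.HasU i u (b i)) ∧ g = v * P.φ c * u

variable (P) in
/-- A conjugate of `g` in the big cell with the given components. -/
def Reach (g : G) (a : ι → F) (c : ι → Fˣ) (b : ι → F) : Prop := ∃ y, Cell P (y * g * y⁻¹) a c b

include hS hsep in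
theorem cell_of_mem {g v u : G} {c : ι → Fˣ} (hv : v ∈ S.Uminus) (hu : u ∈ S.Uplus) (e : g = v * P.φ c * u) :
    ∃ a b, Cell P g a c b := by
  choose a ha using fun i => P.exists_hasV hS i hv
  choose b hb using fun i => P.exists_hasU hS i hu
  exact ⟨a, b, v, u, ha, hb, e⟩

include hS hsep hd in
/-- The move by `x_i(e)`. -/
theorem moveA {g : G} {a b : ι → F} {c : ι → Fˣ} (h : Reach P g a c b) (i : ι) :
    ∃ p : ι → F[X], (∀ j, j ≠ i → (p j).natDegree ≤ d i j ∧ (p j).eval 0 = a j) ∧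
      ∀ (e : F) (s : Fˣ), (s : F) = 1 + e * a i →
        Reach P g (fun j => if j = i then a i / s else (p j).eval e) (c * Pi.mulSingle i s)
          (fun j => if j = i then b i + (((P.χ c (S.a i))⁻¹ : Fˣ) * (e / s) - e) else b j) := by
  obtain ⟨y, ⟨v, u, hv, hu, hg⟩⟩ := h
  obtain ⟨v', hv', hvv⟩ := hv i
  have hex : ∀ j, ∃ p : F[X], j ≠ i →
      p.natDegree ≤ d i j ∧ ∀ e, P.HasV j (P.x (S.a i) e * v' * (P.x (S.a i) e)⁻¹) (p.eval e) := fun j => by
    by_cases hj : j = i
    · exact ⟨0, fun h => absurd hj h⟩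
    · obtain ⟨p, hp⟩ := exists_polyV hS hd (Ne.symm hj) hv'
      exact ⟨p, fun _ => hp⟩
  choose p hp using hex
  have hnei : ∀ {j}, j ≠ i → S.neg (S.a i) ≠ S.neg (S.a j) := fun {j} hj e =>
    hj (hsep.a_inj (by rw [← P.neg_neg (S.a j), ← e, P.neg_neg]))
  have hne : ∀ {j}, j ≠ i → S.a i ≠ S.a j := fun {j} hj e => hj (hsep.a_inj e.symm)
  refine ⟨p, fun j hj => ⟨(hp j hj).1, ?_⟩, fun e s hs => ?_⟩
  · have h0 := (hp j hj).2 0
    rw [P.x_zero, one_mul, inv_one, mul_one] at h0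
    have h1 := h0.mul P hS (P.hasV_x_ne hS (i := j) (j := i) (hnei hj) (a i))
    rw [← hvv, add_zero] at h1
    exact h1.unique P hS hsep (hv j)
  set x := P.x (S.a i) e with hx
  set w := ((P.χ c (S.a i))⁻¹ : Fˣ) * (e / s) with hw
  refine ⟨x * y, ⟨x * v' * x⁻¹ * P.x (S.neg (S.a i)) (a i / s), P.x (S.a i) w * u * x⁻¹,
    fun j => ?_, fun j => ?_, ?_⟩⟩
  · by_cases hj : j = i
    · subst hj
      rw [if_pos rfl]
      exact ⟨_, P.b_conj_UhatN hS j (P.x_mem _ _) hv', rfl⟩
    · rw [if_neg hj, ← add_zero ((p j).eval e)]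
      exact ((hp j hj).2 e).mul P hS (P.hasV_x_ne hS (hnei hj) _)
  · by_cases hj : j = i
    · subst hj
      rw [if_pos rfl, show b j + (w - e) = w + b j + -e by ring, hx]
      exact (((P.hasU_x j w).mul P hS (hu j))).mul P hS ((P.hasU_x j e).inv hS)
    · rw [if_neg hj, show b j = 0 + b j + -0 by ring]
      exact ((P.hasU_x_ne hS (hne hj) w).mul P hS (hu j)).mul P hS ((P.hasU_x_ne hS (hne hj) e).inv hS)
  · rw [show x * y * g * (x * y)⁻¹ = x * (y * g * y⁻¹) * x⁻¹ by group, hg, hvv]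
    have hG := P.gauss i e (a i) s hs
    calc x * (v' * P.x (S.neg (S.a i)) (a i) * P.φ c * u) * x⁻¹
        = x * v' * x⁻¹ * (x * P.x (S.neg (S.a i)) (a i)) * P.φ c * u * x⁻¹ := by group
      _ = x * v' * x⁻¹ * (P.x (S.neg (S.a i)) (a i / s) * P.φ (Pi.mulSingle i s) * P.x (S.a i) (e / s)) *
          P.φ c * u * x⁻¹ := by rw [hx, hG]
      _ = x * v' * x⁻¹ * P.x (S.neg (S.a i)) (a i / s) * P.φ (Pi.mulSingle i s) *
          (P.x (S.a i) (e / s) * P.φ c) * u * x⁻¹ := by group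
      _ = _ := by rw [P.conj', ← hw, mul_comm c, map_mul]; group

include hS hsep hd in
/-- The move by `x_{-i}(f)`. -/
theorem moveB {g : G} {a b : ι → F} {c : ι → Fˣ} (h : Reach P g a c b) (i : ι) :
    ∃ p : ι → F[X], (∀ j, j ≠ i → (p j).natDegree ≤ d i j ∧ (p j).eval 0 = b j) ∧
      ∀ (f : F) (s : Fˣ), (s : F) = 1 - b i * f →
        Reach P g (fun j => if j = i then a i + (f - ((P.χ c (S.a i))⁻¹ : Fˣ) * (f / s)) else a j)
          (c * Pi.mulSingle i s) (fun j => if j = i then b i / s else (p j).eval f) := by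
  obtain ⟨y, ⟨v, u, hv, hu, hg⟩⟩ := h
  obtain ⟨u', hu', huu⟩ := hu i
  have hex : ∀ j, ∃ p : F[X], j ≠ i → p.natDegree ≤ d i j ∧
      ∀ e, P.HasU j (P.x (S.neg (S.a i)) e * u' * (P.x (S.neg (S.a i)) e)⁻¹) (p.eval e) := fun j => by
    by_cases hj : j = i
    · exact ⟨0, fun h => absurd hj h⟩
    · obtain ⟨p, hp⟩ := exists_polyU hS hd (Ne.symm hj) hu'
      exact ⟨p, fun _ => hp⟩
  choose p hp using hex
  have hnei : ∀ {j}, j ≠ i → S.neg (S.a i) ≠ S.neg (S.a j) := fun {j} hj e =>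
    hj (hsep.a_inj (by rw [← P.neg_neg (S.a j), ← e, P.neg_neg]))
  have hne : ∀ {j}, j ≠ i → S.a i ≠ S.a j := fun {j} hj e => hj (hsep.a_inj e.symm)
  refine ⟨p, fun j hj => ⟨(hp j hj).1, ?_⟩, fun f s hs => ?_⟩
  · have h0 := (hp j hj).2 0
    rw [P.x_zero, one_mul, inv_one, mul_one] at h0
    have h1 := (P.hasU_x_ne hS (i := j) (j := i) (hne hj) (b i)).mul P hS h0
    rw [← huu, zero_add] at h1
    exact h1.unique P hS hsep (hu j)
  set z := P.x (S.neg (S.a i)) f with hz
  set w := ((P.χ c (S.neg (S.a i))) : F) * (-f / s) with hw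
  refine ⟨z * y, ⟨z * v * P.x (S.neg (S.a i)) w, P.x (S.a i) (b i / s) * (z * u' * z⁻¹),
    fun j => ?_, fun j => ?_, ?_⟩⟩
  · by_cases hj : j = i
    · subst hj
      rw [if_pos rfl, show a j + (f - ((P.χ c (S.a j))⁻¹ : Fˣ) * (f / s)) = f + a j + w by
        rw [hw, P.χ_neg]; ring, hz]
      exact ((P.hasV_x j f).mul P hS (hv j)).mul P hS (P.hasV_x j w)
    · rw [if_neg hj, show a j = 0 + a j + 0 by ring]
      exact ((P.hasV_x_ne hS (hnei hj) f).mul P hS (hv j)).mul P hS (P.hasV_x_ne hS (hnei hj) w)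
  · by_cases hj : j = i
    · subst hj
      rw [if_pos rfl]
      exact ⟨_, P.negA_conj_Uhat hS j (P.x_mem _ _) hu', rfl⟩
    · rw [if_neg hj, ← zero_add ((p j).eval f)]
      exact (P.hasU_x_ne hS (hne hj) _).mul P hS ((hp j hj).2 f)
  · rw [show z * y * g * (z * y)⁻¹ = z * (y * g * y⁻¹) * z⁻¹ by group, hg, huu]
    have hG := P.gauss i (b i) (-f) s (by rw [hs]; ring)
    calc z * (v * P.φ c * (P.x (S.a i) (b i) * u')) * z⁻¹
        = z * v * P.φ c * (P.x (S.a i) (b i) * z⁻¹) * (z * u' * z⁻¹) := by group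
      _ = z * v * P.φ c * (P.x (S.neg (S.a i)) (-f / s) * P.φ (Pi.mulSingle i s) * P.x (S.a i) (b i / s)) *
          (z * u' * z⁻¹) := by rw [hz, ← P.x_neg, hG]
      _ = z * v * (P.φ c * P.x (S.neg (S.a i)) (-f / s)) * P.φ (Pi.mulSingle i s) * P.x (S.a i) (b i / s) *
          (z * u' * z⁻¹) := by group
      _ = _ := by rw [P.conj, map_mul, ← hw]; group

section Avoid

variable [Fintype F]

/-- Avoiding the roots of a family of non-zero polynomials. -/
theorem exists_avoid [DecidableEq F] (bad : Finset F) (s : Finset ι) (p : ι → F[X]) (n : ι → ℕ)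
    (hp : ∀ j ∈ s, (p j).natDegree ≤ n j ∧ (p j).eval 0 ≠ 0)
    (hcard : bad.card + ∑ j ∈ s, n j < Fintype.card F) : ∃ e, e ∉ bad ∧ ∀ j ∈ s, (p j).eval e ≠ 0 := by
  let U : Finset F := bad ∪ s.biUnion fun j => (p j).roots.toFinset
  have hU : U.card ≤ bad.card + ∑ j ∈ s, n j := by
    refine (Finset.card_union_le _ _).trans (Nat.add_le_add_left ?_ _)
    refine Finset.card_biUnion_le.trans (Finset.sum_le_sum fun j hj => ?_)
    exact (Multiset.toFinset_card_le _).trans ((card_roots' _).trans (hp j hj).1)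
  obtain ⟨e, -, he⟩ := Finset.exists_mem_notMem_of_card_lt_card (show U.card < (Finset.univ : Finset F).card by
    rw [Finset.card_univ]; omega)
  simp only [U, Finset.mem_union, Finset.mem_biUnion, not_or, not_exists, not_and] at he
  refine ⟨e, he.1, fun j hj h0 => he.2 j hj ?_⟩
  rw [Multiset.mem_toFinset, mem_roots (fun h => (hp j hj).2 (by rw [h, eval_zero]))]
  exact h0

variable (hq : 9 ≤ Fintype.card F) [Finite R]
include hS hsep hd hq

omit [Finite R] in
/-- An active node gets a non-zero negative component. -/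
theorem activate {g : G} {a b : ι → F} {c : ι → Fˣ} (h : Reach P g a c b) (j : ι) (ha : a j = 0)
    (hact : b j ≠ 0 ∨ P.χ c (S.a j) ≠ 1) :
    ∃ a' c' b', Reach P g a' c' b' ∧ a' j ≠ 0 ∧ ∀ k, k ≠ j → a' k = a k := by
  classical
  set t : Fˣ := P.χ c (S.a j) with ht
  obtain ⟨p, -, hp⟩ := moveB hS hsep hd h j
  obtain ⟨f, s, hs, hf, hne⟩ : ∃ (f : F) (s : Fˣ), (s : F) = 1 - b j * f ∧ f ≠ 0 ∧ (t : F) * s ≠ 1 := by
    by_cases hb : b j = 0
    · refine ⟨1, 1, by simp [hb], one_ne_zero, ?_⟩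
      simpa using hact.resolve_left (by simp [hb])
    · obtain ⟨x, hx, -⟩ := exists_avoid (bad := ({0, 1, (t : F)⁻¹} : Finset F)) (s := (∅ : Finset ι))
        (fun _ => 0) (fun _ => 0) (by simp) (by
          have := Finset.card_le_three (a := (0 : F)) (b := 1) (c := (t : F)⁻¹)
          simp only [Finset.sum_empty]; omega)
      simp only [Finset.mem_insert, Finset.mem_singleton, not_or] at hx
      refine ⟨(1 - x) / b j, Units.mk0 x hx.1, ?_, div_ne_zero (sub_ne_zero.2 (Ne.symm hx.2.1)) hb, ?_⟩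
      · rw [Units.val_mk0, mul_div_cancel₀ _ hb, sub_sub_cancel]
      · intro e
        exact hx.2.2 (eq_inv_of_mul_eq_one_right e)
  refine ⟨_, _, _, hp f s hs, ?_, fun k hk => if_neg hk⟩
  rw [if_pos rfl, ha, zero_add, ← ht]
  intro e
  apply hne
  have hs0 := s.ne_zero
  have ht0 := t.ne_zero
  rw [sub_eq_zero, Units.val_inv_eq_inv_val] at e
  field_simp at e
  exact e

omit [Finite R] in
/-- An active node next to a node with a non-zero component. -/
theorem spread {g : G} {a b : ι → F} {c : ι → Fˣ} (h : Reach P g a c b) (i j : ι) (hai : a i ≠ 0)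
    (haj : a j = 0) (hij : d i j ≠ 0) :
    ∃ a' c' b', Reach P g a' c' b' ∧ a' j ≠ 0 ∧ ∀ k, a k ≠ 0 → a' k ≠ 0 := by
  classical
  have hne : i ≠ j := fun e => hai (e ▸ haj)
  by_cases hact : b j ≠ 0 ∨ P.χ c (S.a j) ≠ 1
  · obtain ⟨a', c', b', hr, h1, h2⟩ := activate hS hsep hd hq h j haj hact
    exact ⟨a', c', b', hr, h1, fun k hk => by rwa [h2 k (fun e => hk (e ▸ haj))]⟩
  push Not at hact
  obtain ⟨p, hp0, hp⟩ := moveA hS hsep hd h i
  set m := d i j with hm
  let bad : Finset F := {-1 / a i} ∪ (Finset.univ.filter fun e : F => (1 + e * a i) ^ m = 1)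
  have hroots : (Finset.univ.filter fun x : F => x ^ m = 1).card ≤ m := by
    have hmpos : 0 < m := Nat.pos_of_ne_zero hij
    refine (Finset.card_le_card ?_).trans ((Multiset.toFinset_card_le _).trans (Polynomial.card_nthRoots m (1 : F)))
    intro x hx
    rw [Multiset.mem_toFinset, Polynomial.mem_nthRoots hmpos]
    exact (Finset.mem_filter.1 hx).2
  have hbad : bad.card ≤ 1 + m := by
    refine (Finset.card_union_le _ _).trans (Nat.add_le_add (by simp) (le_trans ?_ hroots))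
    refine Finset.card_le_card_of_injOn (fun e => 1 + e * a i) (fun e he => by simpa using he) ?_
    intro x _ y _ hxy
    exact mul_right_cancel₀ hai (add_left_cancel hxy)
  let keep := (Finset.univ.erase i).filter fun k => a k ≠ 0
  have hsum : m + ∑ k ∈ keep, d i k ≤ 3 := by
    refine le_trans ?_ (hd.sum_le i)
    have hj : j ∉ keep := by simp [keep, haj]
    rw [hm, ← Finset.sum_insert hj]
    exact Finset.sum_le_sum_of_subset (Finset.insert_subset (by simp [hne.symm]) (Finset.filter_subset _ _))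
  obtain ⟨e, he, hek⟩ := exists_avoid bad keep p (d i)
    (fun k hk => by
      simp only [keep, Finset.mem_filter, Finset.mem_erase] at hk
      obtain ⟨h1, h2⟩ := hp0 k hk.1.1
      exact ⟨h1, by rw [h2]; exact hk.2⟩) (by omega)
  simp only [bad, Finset.mem_union, Finset.mem_singleton, Finset.mem_filter, Finset.mem_univ, true_and,
    not_or] at he
  have hs : 1 + e * a i ≠ 0 := fun h0 => he.1 (by field_simp; linear_combination h0)
  set s := Units.mk0 _ hs
  set a' : ι → F := fun k => if k = i then a i / s else (p k).eval e with ha'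
  have hkeep : ∀ k, a k ≠ 0 → a' k ≠ 0 := by
    intro k hk
    by_cases hki : k = i
    · rw [ha']; simp [hki, hai]
    · rw [ha']; simp only [if_neg hki]
      exact hek k (by simp [keep, hki, hk])
  have hR := hp e s rfl
  rw [← ha'] at hR
  by_cases hj' : a' j = 0
  · have hact' : P.χ (c * Pi.mulSingle i s) (S.a j) ≠ 1 := by
      rw [P.χ_mul, hact.2, one_mul, P.χ_single]
      intro h1
      apply he.2
      have h2 : s ^ m = 1 := by
        rw [hm, hd.eq i j hne]
        rcases Int.natAbs_eq (P.A i (S.a j)) with e' | e' <;> rw [e'] at h1 <;> simpa using h1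
      simpa [s] using congrArg Units.val h2
    obtain ⟨a'', c'', b'', hr, h1, h2⟩ := activate hS hsep hd hq hR j hj' (Or.inr hact')
    exact ⟨a'', c'', b'', hr, h1, fun k hk => by
      rw [h2 k (fun e' => hk (e' ▸ haj))]; exact hkeep k hk⟩
  · exact ⟨a', _, _, hR, hj', hkeep⟩

/-- Some conjugate outside the centre has an active node. -/
theorem exists_active {g : G} (hg : g ∉ Subgroup.center G) :
    ∃ a c b, Reach P g a c b ∧ ∃ j, a j ≠ 0 ∨ b j ≠ 0 ∨ P.χ c (S.a j) ≠ 1 := by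
  classical
  by_contra hcon
  push Not at hcon
  obtain ⟨y, v, hv, c, u, hu, e⟩ := P.exists_big_cell hS hsep (by
    obtain ⟨x, hx, -⟩ := exists_avoid ({0, 1} : Finset F) (∅ : Finset ι) (fun _ => 0) (fun _ => 0) (by simp)
      (by have := Finset.card_le_two (a := (0 : F)) (b := 1); simp only [Finset.sum_empty]; omega)
    simp only [Finset.mem_insert, Finset.mem_singleton, not_or] at hx
    exact ⟨x, hx⟩) g
  obtain ⟨a, b, hcell⟩ := cell_of_mem hS hsep hv hu e
  have hcentral : P.φ c ∈ Subgroup.center G := by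
    have hχ : ∀ j, P.χ c (S.a j) = 1 := fun j => (hcon a c b ⟨y, hcell⟩ j).2.2
    rw [Subgroup.mem_center_iff]
    intro x
    have hx : x ∈ (⊤ : Subgroup G) := trivial
    have hle : ∀ x ∈ S.H ⊔ Subgroup.closure {g | ∃ i, g ∈ S.U (S.a i) ∨ g ∈ S.U (S.neg (S.a i))},
        Commute x (P.φ c) := by
      intro x hx
      have h2 : S.H ⊔ Subgroup.closure {g | ∃ i, g ∈ S.U (S.a i) ∨ g ∈ S.U (S.neg (S.a i))} ≤
          Subgroup.centralizer {P.φ c} := by
        refine sup_le (fun h hh => ?_) ((Subgroup.closure_le _).2 ?_)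
        · obtain ⟨c', rfl⟩ := P.exists_φ hh
          rw [Subgroup.mem_centralizer_singleton_iff, ← map_mul, ← map_mul, mul_comm]
        · rintro z ⟨i, hz | hz⟩ <;> obtain ⟨t, rfl⟩ := (P.mem_U _ _).1 hz <;>
            rw [SetLike.mem_coe, Subgroup.mem_centralizer_singleton_iff, P.conj] <;>
            simp [P.χ_neg, hχ i]
      exact Subgroup.mem_centralizer_singleton_iff.1 (h2 hx)
    exact hle x (hS.gen ▸ hx)
  have key : ∀ w ∈ S.N, ∀ v u, v ∈ S.Uminus → u ∈ S.Uplus → IsConj g (v * P.φ c * u) →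
      w * v * w⁻¹ ∈ S.Uminus ∧ w * u * w⁻¹ ∈ S.Uplus ∧ IsConj g ((w * v * w⁻¹) * P.φ c * (w * u * w⁻¹)) := by
    intro w hw
    have hhat : ∀ v u, v ∈ S.Uminus → u ∈ S.Uplus → IsConj g (v * P.φ c * u) →
        ∀ i, v ∈ UhatN S i ∧ u ∈ S.Uhat i := by
      intro v u hv hu hconj i
      obtain ⟨z, hz⟩ := isConj_iff.1 hconj
      obtain ⟨a, b, hc⟩ := cell_of_mem hS hsep hv hu hz
      obtain ⟨h1, h2, -⟩ := hcon a c b ⟨z, hc⟩ i
      obtain ⟨v1, u1, hV, hU, e1⟩ := hc
      have hvv : v1 = v ∧ u1 = u := by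
        rw [hz] at e1
        have hm : v1⁻¹ * v = P.φ c * u1 * u⁻¹ * (P.φ c)⁻¹ := by
          calc v1⁻¹ * v = v1⁻¹ * (v * P.φ c * u) * u⁻¹ * (P.φ c)⁻¹ := by group
            _ = _ := by rw [e1]; group
        have hmem : v1⁻¹ * v ∈ S.B ⊓ S.Uminus := by
          refine Subgroup.mem_inf.2 ⟨?_, mul_mem (inv_mem ((hV i).mem P hS)) hv⟩
          rw [hm]
          exact mul_mem (mul_mem (mul_mem (H_le_B (P.φ_mem c)) (Uplus_le_B ((hU i).mem P hS)))
            (inv_mem (Uplus_le_B hu))) (inv_mem (H_le_B (P.φ_mem c)))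
        rw [hsep.B_V, Subgroup.mem_bot, inv_mul_eq_one] at hmem
        subst hmem
        exact ⟨rfl, (mul_left_cancel e1).symm⟩
      obtain ⟨rfl, rfl⟩ := hvv
      refine ⟨?_, ?_⟩
      · obtain ⟨v', hv', ev⟩ := hV i
        rw [h1, P.x_zero, mul_one] at ev
        rw [ev]; exact hv'
      · obtain ⟨u', hu', eu⟩ := hU i
        rw [h2, P.x_zero, one_mul] at eu
        rw [eu]; exact hu'
    have hclose : ∀ w v u, IsConj g (v * P.φ c * u) →
        IsConj g ((w * v * w⁻¹) * P.φ c * (w * u * w⁻¹)) := by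
      intro w v u h
      refine h.trans (isConj_iff.2 ⟨w, ?_⟩)
      calc w * (v * P.φ c * u) * w⁻¹ = w * v * w⁻¹ * (w * P.φ c) * (u * w⁻¹) := by group
        _ = w * v * w⁻¹ * (P.φ c * w) * (u * w⁻¹) := by rw [Subgroup.mem_center_iff.1 hcentral w]
        _ = _ := by group
    have hN : S.N = Subgroup.closure ((S.H : Set G) ∪ Set.range S.n) := by
      rw [Subgroup.closure_union, Subgroup.closure_eq]; rfl
    have step : ∀ x ∈ (S.H : Set G) ∪ Set.range S.n, ∀ v u, v ∈ S.Uminus → u ∈ S.Uplus →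
        IsConj g (v * P.φ c * u) → (x * v * x⁻¹ ∈ S.Uminus ∧ x * u * x⁻¹ ∈ S.Uplus) ∧
          (x⁻¹ * v * x ∈ S.Uminus ∧ x⁻¹ * u * x ∈ S.Uplus) := by
      rintro x (hx | ⟨i, rfl⟩) v u hv hu hconj
      · have hH : ∀ x ∈ S.H, x * v * x⁻¹ ∈ S.Uminus ∧ x * u * x⁻¹ ∈ S.Uplus := by
          intro x hx
          refine ⟨?_, H_conj_Uplus hS hx hu⟩
          have : (S.Uminus).map (MulAut.conj x).toMonoidHom ≤ S.Uminus := by
            rw [RootGroupSys.Uminus, MonoidHom.map_closure, Subgroup.closure_le]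
            rintro _ ⟨z, ⟨r, hr, hz⟩, rfl⟩
            exact Subgroup.subset_closure ⟨r, hr, acts_conj_mem (acts_H hS hx) hz⟩
          exact this ⟨v, hv, rfl⟩
        exact ⟨hH x hx, by simpa using hH x⁻¹ (inv_mem hx)⟩
      · obtain ⟨h1, h2⟩ := hhat v u hv hu hconj i
        exact ⟨⟨UhatN_le i (P.n_conj_UhatN hS i h1), Uhat_le_Uplus i (n_conj_Uhat hS i h2)⟩,
          ⟨UhatN_le i (P.n_inv_conj_UhatN hS i h1), Uhat_le_Uplus i (n_inv_conj_Uhat hS i h2)⟩⟩
    rw [hN] at hw
    induction hw using Subgroup.closure_induction_left with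
    | one => intro v u hv hu h; simp only [one_mul, inv_one, mul_one]; exact ⟨hv, hu, h⟩
    | mul_left x hx z _ ih =>
      intro v u hv hu h
      obtain ⟨i1, i2, i3⟩ := ih v u hv hu h
      obtain ⟨⟨j1, j2⟩, -⟩ := step x hx _ _ i1 i2 i3
      refine ⟨?_, ?_, hclose _ v u h⟩
      · convert j1 using 1; group
      · convert j2 using 1; group
    | inv_mul_cancel x hx z _ ih =>
      intro v u hv hu h
      obtain ⟨i1, i2, i3⟩ := ih v u hv hu h
      obtain ⟨-, j1, j2⟩ := step x hx _ _ i1 i2 i3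
      refine ⟨?_, ?_, hclose _ v u h⟩
      · convert j1 using 1; group
      · convert j2 using 1; group
  obtain ⟨h1, h2, -⟩ := key P.w₀ P.w₀_mem v u hv hu (isConj_iff.2 ⟨y, e⟩)
  have hv1 : v = 1 := by
    have hm : (S.Uminus).map (MulAut.conj P.w₀).toMonoidHom ≤ S.Uplus := by
      rw [RootGroupSys.Uminus, MonoidHom.map_closure, Subgroup.closure_le]
      rintro _ ⟨z, ⟨r, hr, hz⟩, rfl⟩
      exact U_le_Uplus ((P.flip₀ r).2 hr) (acts_conj_mem P.acts₀ hz)
    have hB : P.w₀ * v * P.w₀⁻¹ ∈ S.B ⊓ S.Uminus := ⟨Uplus_le_B (hm ⟨v, hv, rfl⟩), h1⟩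
    rwa [hsep.B_V, Subgroup.mem_bot, conj_eq_one_iff] at hB
  have hu1 : u = 1 := by
    have hm : (S.Uplus).map (MulAut.conj P.w₀).toMonoidHom ≤ S.Uminus := by
      rw [RootGroupSys.Uplus, MonoidHom.map_closure, Subgroup.closure_le]
      rintro _ ⟨z, ⟨r, hr, hz⟩, rfl⟩
      exact Subgroup.subset_closure ⟨_, fun h => (P.flip₀ r).1 h hr, acts_conj_mem P.acts₀ hz⟩
    have hB : P.w₀ * u * P.w₀⁻¹ ∈ S.B ⊓ S.Uminus := ⟨Uplus_le_B h2, hm ⟨u, hu, rfl⟩⟩
    rwa [hsep.B_V, Subgroup.mem_bot, conj_eq_one_iff] at hB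
  rw [hv1, hu1, one_mul, mul_one] at e
  apply hg
  have := Subgroup.Normal.conj_mem (inferInstance : (Subgroup.center G).Normal) _ hcentral y⁻¹
  rw [← e] at this
  simpa [mul_assoc] using this

/-- Some conjugate has all negative simple components non-zero. -/
theorem exists_allA {g : G} (hg : g ∉ Subgroup.center G) : ∃ a c b, Reach P g a c b ∧ ∀ i, a i ≠ 0 := by
  classical
  have hstep : ∀ n : ℕ, (∃ a c b, Reach P g a c b ∧ (∀ i, a i ≠ 0)) ∨
      (∃ a c b, Reach P g a c b ∧ n ≤ (Finset.univ.filter fun i => a i ≠ 0).card) := by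
    intro n
    induction n with
    | zero =>
      obtain ⟨a, c, b, h, -⟩ := exists_active hS hsep hd hq hg
      exact Or.inr ⟨a, c, b, h, Nat.zero_le _⟩
    | succ n ih =>
      rcases ih with ih | ⟨a, c, b, h, hn⟩
      · exact Or.inl ih
      set P₀ := Finset.univ.filter fun i => a i ≠ 0 with hP₀
      have grow : ∀ (a' : ι → F) (j : ι), a j = 0 → a' j ≠ 0 → (∀ k, a k ≠ 0 → a' k ≠ 0) →
          P₀.card < (Finset.univ.filter fun i => a' i ≠ (0 : F)).card := by
        intro a' j h1 h2 h3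
        refine Finset.card_lt_card ((Finset.ssubset_iff_of_subset ?_).2 ⟨j, by simp [h2], by simp [hP₀, h1]⟩)
        intro k hk
        simpa using h3 k (by simpa [hP₀] using hk)
      by_cases huniv : P₀ = Finset.univ
      · exact Or.inl ⟨a, c, b, h, fun i => by
          have : i ∈ P₀ := by rw [huniv]; simp
          simpa [hP₀] using this⟩
      rcases P₀.eq_empty_or_nonempty with hne | hne
      · obtain ⟨a, c, b, h, j, hj⟩ := exists_active hS hsep hd hq hg
        right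
        have hn0 : n = 0 := by rw [hne, Finset.card_empty] at hn; omega
        by_cases ha : a j = 0
        · obtain ⟨a', c', b', hr, h1, -⟩ := activate hS hsep hd hq h j ha (hj.resolve_left (by simp [ha]))
          exact ⟨a', c', b', hr, by rw [hn0]; exact Finset.card_pos.2 ⟨j, by simp [h1]⟩⟩
        · exact ⟨a, c, b, h, by rw [hn0]; exact Finset.card_pos.2 ⟨j, by simp [ha]⟩⟩
      · obtain ⟨i, hi, j, hj, hij⟩ := hd.conn P₀ hne huniv
        have haj : a j = 0 := by simpa [hP₀] using hj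
        obtain ⟨a', c', b', hr, h1, h2⟩ := spread hS hsep hd hq h i j (by simpa [hP₀] using hi) haj hij
        exact Or.inr ⟨a', c', b', hr, by have := grow a' j haj h1 h2; omega⟩
  rcases hstep (Fintype.card ι + 1) with h | ⟨a, c, b, -, hn⟩
  · exact h
  · have := (Finset.univ.filter fun i => a i ≠ (0 : F)).card_le_univ
    omega

/-- Some conjugate has all simple components non-zero. -/
theorem exists_allAB {g : G} (hg : g ∉ Subgroup.center G) :
    ∃ a c b, Reach P g a c b ∧ (∀ i, a i ≠ 0) ∧ ∀ i, b i ≠ 0 := by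
  classical
  have : ∀ s : Finset ι, ∃ a c b, Reach P g a c b ∧ (∀ i, a i ≠ 0) ∧ ∀ i ∈ s, b i ≠ 0 := by
    intro s
    induction s using Finset.induction with
    | empty =>
      obtain ⟨a, c, b, h, ha⟩ := exists_allA hS hsep hd hq hg
      exact ⟨a, c, b, h, ha, fun i hi => absurd hi (Finset.notMem_empty i)⟩
    | @insert i s hi ih =>
      obtain ⟨a, c, b, h, ha, hb⟩ := ih
      by_cases hbi : b i = 0
      swap
      · exact ⟨a, c, b, h, ha, fun k hk => (Finset.mem_insert.1 hk).elim (fun e => e ▸ hbi) (hb k)⟩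
      obtain ⟨p, hp0, hp⟩ := moveA hS hsep hd h i
      set t : Fˣ := P.χ c (S.a i)
      obtain ⟨e, he, hek⟩ := exists_avoid ({0, -1 / a i, ((t : F)⁻¹ - 1) / a i} : Finset F)
        (Finset.univ.erase i) p (d i)
        (fun k hk => ⟨(hp0 k (Finset.ne_of_mem_erase hk)).1, by
          rw [(hp0 k (Finset.ne_of_mem_erase hk)).2]; exact ha k⟩) (by
          have h3 := Finset.card_le_three (a := (0 : F)) (b := -1 / a i) (c := ((t : F)⁻¹ - 1) / a i)
          have := hd.sum_le i
          omega)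
      simp only [Finset.mem_insert, Finset.mem_singleton, not_or] at he
      have hai := ha i
      have hs : 1 + e * a i ≠ 0 := fun h0 => he.2.1 (by field_simp; linear_combination h0)
      refine ⟨_, _, _, hp e (Units.mk0 _ hs) rfl, fun k => ?_, fun k hk => ?_⟩
      · by_cases hki : k = i
        · simp [hki, hai, hs]
        · simp only [if_neg hki]; exact hek k (by simp [hki])
      · by_cases hki : k = i
        · rw [if_pos hki, hbi, zero_add, Units.val_mk0, Units.val_inv_eq_inv_val, sub_ne_zero]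
          intro h0
          apply he.2.2
          have ht0 := t.ne_zero
          field_simp at h0 ⊢
          have := mul_left_cancel₀ he.1 (show e * 1 = e * ((t : F) * (1 + e * a i)) by linear_combination h0)
          linear_combination -this
        · rw [if_neg hki]; exact hb k ((Finset.mem_insert.1 hk).resolve_left hki)
  obtain ⟨a, c, b, h, ha, hb⟩ := this Finset.univ
  exact ⟨a, c, b, h, ha, fun i => hb i (Finset.mem_univ i)⟩

/-- Prescribing the torus part at two independent sets of nodes, keeping positive witnesses. -/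
theorem exists_target {g : G} (hg : g ∉ Subgroup.center G) (Ka Kb W : Finset ι) (tgt : ι → Fˣ)
    (hdis : Disjoint Ka Kb) (hW : Disjoint W (Ka ∪ Kb))
    (hKa : ∀ i ∈ Ka, ∀ j ∈ Ka, i ≠ j → d i j = 0)
    (hKb : ∀ i ∈ Kb, ∀ j ∈ Kb ∪ W, i ≠ j → d i j = 0) :
    ∃ a c b, Reach P g a c b ∧ (∀ k ∈ Ka ∪ Kb, c k = tgt k) ∧ ∀ j ∈ W, b j ≠ 0 := by
  classical
  have hconst : ∀ (p : F[X]) (i j : ι) (v e : F), p.natDegree ≤ d i j → p.eval 0 = v → d i j = 0 →
      p.eval e = v := by
    intro p i j v e hp h0 hij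
    rw [eq_C_of_natDegree_eq_zero (by omega : p.natDegree = 0)] at h0 ⊢
    simpa using h0
  have hB : ∀ s ⊆ Kb, ∃ a c b, Reach P g a c b ∧ (∀ i, i ∉ Kb → a i ≠ 0) ∧
      (∀ k ∈ s, c k = tgt k) ∧ ∀ j ∈ Kb ∪ W, b j ≠ 0 := by
    intro s
    induction s using Finset.induction with
    | empty =>
      intro _
      obtain ⟨a, c, b, h, ha, hb⟩ := exists_allAB hS hsep hd hq hg
      exact ⟨a, c, b, h, fun i _ => ha i, fun k hk => absurd hk (Finset.notMem_empty k), fun j _ => hb j⟩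
    | @insert i s hi ih =>
      intro hs
      obtain ⟨a, c, b, h, ha, hc, hb⟩ := ih ((Finset.subset_insert i s).trans hs)
      have hiKb : i ∈ Kb := hs (Finset.mem_insert_self i s)
      obtain ⟨p, hp0, hp⟩ := moveB hS hsep hd h i
      set u : Fˣ := (c i)⁻¹ * tgt i
      have hbi := hb i (Finset.mem_union_left _ hiKb)
      refine ⟨_, _, _, hp ((1 - u) / b i) u (by field_simp; ring), fun k hk => ?_, fun k hk => ?_, fun j hj => ?_⟩
      · rw [if_neg (fun (e : k = i) => hk (e ▸ hiKb))]; exact ha k hk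
      · rw [Pi.mul_apply]
        rcases Finset.mem_insert.1 hk with rfl | hk'
        · rw [Pi.mulSingle_eq_same, mul_inv_cancel_left]
        · rw [Pi.mulSingle_eq_of_ne (fun e : k = i => hi (e ▸ hk')), mul_one]; exact hc k hk'
      · by_cases hji : j = i
        · rw [if_pos hji]; exact div_ne_zero hbi u.ne_zero
        · rw [if_neg hji, hconst _ i j _ _ (hp0 j hji).1 (hp0 j hji).2 (hKb i hiKb j hj (Ne.symm hji))]
          exact hb j hj
  have hA : ∀ s ⊆ Ka, ∃ a c b, Reach P g a c b ∧ (∀ i ∈ Ka, a i ≠ 0) ∧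
      (∀ k ∈ s ∪ Kb, c k = tgt k) ∧ ∀ j ∈ W, b j ≠ 0 := by
    intro s
    induction s using Finset.induction with
    | empty =>
      intro _
      obtain ⟨a, c, b, h, ha, hc, hb⟩ := hB Kb le_rfl
      exact ⟨a, c, b, h, fun i hi => ha i (Finset.disjoint_left.1 hdis hi), fun k hk => hc k (by simpa using hk),
        fun j hj => hb j (Finset.mem_union_right _ hj)⟩
    | @insert i s hi ih =>
      intro hs
      obtain ⟨a, c, b, h, ha, hc, hb⟩ := ih ((Finset.subset_insert i s).trans hs)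
      have hiKa : i ∈ Ka := hs (Finset.mem_insert_self i s)
      obtain ⟨p, hp0, hp⟩ := moveA hS hsep hd h i
      set u : Fˣ := (c i)⁻¹ * tgt i
      have hai := ha i hiKa
      refine ⟨_, _, _, hp (((u : F) - 1) / a i) u (by field_simp; ring), fun k hk => ?_, fun k hk => ?_, fun j hj => ?_⟩
      · by_cases hki : k = i
        · rw [if_pos hki]; exact div_ne_zero hai u.ne_zero
        · rw [if_neg hki, hconst _ i k _ _ (hp0 k hki).1 (hp0 k hki).2 (hKa i hiKa k hk (Ne.symm hki))]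
          exact ha k hk
      · rw [Pi.mul_apply]
        by_cases hki : k = i
        · subst hki; rw [Pi.mulSingle_eq_same, mul_inv_cancel_left]
        · rw [Pi.mulSingle_eq_of_ne hki, mul_one]
          apply hc
          rw [Finset.insert_union, Finset.mem_insert] at hk
          exact hk.resolve_left hki
      · have hji : j ≠ i := fun (e : j = i) => Finset.disjoint_left.1 hW hj (Finset.mem_union_left _ (e ▸ hiKa))
        rw [if_neg hji]; exact hb j hj
  obtain ⟨a, c, b, h, -, hc, hb⟩ := hA Ka le_rfl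
  exact ⟨a, c, b, h, hc, hb⟩

end Avoid

end H21.ClassSquare.Exc
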