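import Cfsg.Agent.H53.RootGroupWeyl

/-!
Split root group systems: parametrised root groups, components at the simple roots, and the big cell
`U⁻ T U⁺`.
-/

set_option autoImplicit false
set_option linter.unusedSectionVars false
set_option linter.style.haveILetI false

namespace H21.ClassSquare.Exc

open H53 (RootGroupSys)
open H53.RootGroupSys

variable {G : Type*} [Group G] {ι R : Type*} (S : RootGroupSys G ι R)

/-- The subgroup of the negative root groups other than that of `-a i`. -/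
def UhatN (i : ι) : Subgroup G :=
  Subgroup.closure {g | ∃ r, ¬ S.pos r ∧ r ≠ S.neg (S.a i) ∧ g ∈ S.U r}

/-- Parametrised root groups and torus. -/
structure Split (F : Type*) [Field F] [Fintype ι] [DecidableEq ι] where
  x : R → F → G
  x_add : ∀ r t u, x r (t + u) = x r t * x r u
  mem_U : ∀ r g, g ∈ S.U r ↔ ∃ t, g = x r t
  x_inj : ∀ r, Function.Injective (x r)
  φ : (ι → Fˣ) →* G
  H_eq : φ.range = S.H
  A : ι → R → ℤ
  conj_φ : ∀ c r u, φ c * x r u * (φ c)⁻¹ = x r (((∏ i, c i ^ A i r : Fˣ) : F) * u)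
  A_self : ∀ i, A i (S.a i) = 2
  A_neg : ∀ i j, A j (S.neg (S.a i)) = - A j (S.a i)
  neg_neg : ∀ r, S.neg (S.neg r) = r
  gauss : ∀ i (e a : F) (s : Fˣ), (s : F) = 1 + e * a →
    x (S.a i) e * x (S.neg (S.a i)) a =
      x (S.neg (S.a i)) (a / s) * φ (Pi.mulSingle i s) * x (S.a i) (e / s)
  w₀ : G
  w₀_mem : w₀ ∈ S.N
  π₀ : Equiv.Perm R
  acts₀ : S.Acts w₀ π₀
  flip₀ : ∀ r, S.pos (π₀ r) ↔ ¬ S.pos r

variable {S} {F : Type*} [Field F] [Fintype ι] [DecidableEq ι] (P : Split S F) (hS : S.Axioms) (hsep : Sep S)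

namespace Split

theorem x_zero (r : R) : P.x r 0 = 1 := by
  have h := P.x_add r 0 0
  rwa [add_zero, left_eq_mul] at h

theorem x_neg (r : R) (t : F) : P.x r (-t) = (P.x r t)⁻¹ :=
  eq_inv_of_mul_eq_one_left (by rw [← P.x_add, neg_add_cancel, P.x_zero])

theorem x_mem (r : R) (t : F) : P.x r t ∈ S.U r := (P.mem_U r _).2 ⟨t, rfl⟩

/-- The character of a root on the parameters of the torus. -/
def χ (c : ι → Fˣ) (r : R) : Fˣ := ∏ i, c i ^ P.A i r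

theorem conj (c : ι → Fˣ) (r : R) (u : F) : P.φ c * P.x r u = P.x r ((P.χ c r : F) * u) * P.φ c := by
  rw [← mul_inv_eq_iff_eq_mul]; exact P.conj_φ c r u

theorem conj' (c : ι → Fˣ) (r : R) (u : F) : P.x r u * P.φ c = P.φ c * P.x r (((P.χ c r)⁻¹ : Fˣ) * u) := by
  rw [P.conj, ← mul_assoc, ← Units.val_mul, mul_inv_cancel, Units.val_one, one_mul]

theorem χ_mul (c d : ι → Fˣ) (r : R) : P.χ (c * d) r = P.χ c r * P.χ d r := by
  simp [χ, mul_zpow, Finset.prod_mul_distrib]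

theorem χ_single (i : ι) (s : Fˣ) (r : R) : P.χ (Pi.mulSingle i s) r = s ^ P.A i r := by
  rw [χ, Finset.prod_eq_single i]
  · simp
  · intro j _ hj; simp [hj]
  · simp

theorem χ_neg (c : ι → Fˣ) (i : ι) : P.χ c (S.neg (S.a i)) = (P.χ c (S.a i))⁻¹ := by
  simp [χ, P.A_neg]

theorem φ_mem (c : ι → Fˣ) : P.φ c ∈ S.H := P.H_eq ▸ ⟨c, rfl⟩

theorem exists_φ {h : G} (hh : h ∈ S.H) : ∃ c, P.φ c = h := by
  rw [← P.H_eq] at hh; exact hh

include P in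
theorem mem_Uminus {r : R} (hr : ¬ S.pos r) (t : F) : P.x r t ∈ S.Uminus :=
  Subgroup.subset_closure ⟨r, hr, P.x_mem r t⟩

include P in
theorem mem_Uplus {r : R} (hr : S.pos r) (t : F) : P.x r t ∈ S.Uplus :=
  U_le_Uplus hr (P.x_mem r t)

theorem UhatN_le (i : ι) : UhatN S i ≤ S.Uminus :=
  Subgroup.closure_mono fun _ ⟨r, hr, _, hg⟩ => ⟨r, hr, hg⟩

include hS in
theorem sigma_negside (P : Split S F) (i : ι) {r : R} (hr : ¬ S.pos r) (hne : r ≠ S.neg (S.a i)) :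
    ¬ S.pos (S.σ i r) ∧ S.σ i r ≠ S.neg (S.a i) := by
  have hp : S.pos (S.neg r) := (hS.pos_neg r).2 hr
  have hne' : S.neg r ≠ S.a i := fun e => hne (by rw [← e, P.neg_neg])
  have h1 := hS.sigma_pos i _ hp hne'
  rw [hS.sigma_neg, hS.pos_neg] at h1
  refine ⟨h1, fun e => hr ?_⟩
  rw [← hS.sigma_a i] at e
  rw [(S.σ i).injective e]
  exact hS.pos_a i

include hS P in
theorem n_conj_UhatN (i : ι) {g : G} (hg : g ∈ UhatN S i) : S.n i * g * (S.n i)⁻¹ ∈ UhatN S i := by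
  have : (UhatN S i).map (MulAut.conj (S.n i)).toMonoidHom ≤ UhatN S i := by
    rw [UhatN, MonoidHom.map_closure, Subgroup.closure_le]
    rintro _ ⟨y, ⟨r, hr, hne, hy⟩, rfl⟩
    obtain ⟨h1, h2⟩ := P.sigma_negside hS i hr hne
    exact Subgroup.subset_closure ⟨_, h1, h2, acts_conj_mem (acts_n hS i) hy⟩
  exact this ⟨g, hg, rfl⟩

include hS in
theorem H_conj_UhatN (i : ι) {h g : G} (hh : h ∈ S.H) (hg : g ∈ UhatN S i) : h * g * h⁻¹ ∈ UhatN S i := by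
  have : (UhatN S i).map (MulAut.conj h).toMonoidHom ≤ UhatN S i := by
    rw [UhatN, MonoidHom.map_closure, Subgroup.closure_le]
    rintro _ ⟨y, ⟨r, hr, hne, hy⟩, rfl⟩
    exact Subgroup.subset_closure ⟨_, hr, hne, acts_conj_mem (acts_H hS hh) hy⟩
  exact this ⟨g, hg, rfl⟩

include hS P in
theorem n_inv_conj_UhatN (i : ι) {g : G} (hg : g ∈ UhatN S i) : (S.n i)⁻¹ * g * S.n i ∈ UhatN S i := by
  obtain ⟨h, hh, he⟩ := n_inv_eq hS i
  have := H_conj_UhatN hS i hh (P.n_conj_UhatN hS i hg)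
  have e : ∀ m g k : G, m⁻¹ = k * m → k * (m * g * m⁻¹) * k⁻¹ = m⁻¹ * g * m := fun m g k hk => by
    calc k * (m * g * m⁻¹) * k⁻¹ = (k * m) * g * (k * m)⁻¹ := by group
      _ = _ := by rw [← hk, inv_inv]
  rwa [e _ _ _ he] at this

include P in
theorem pos_π₀_inv (r : R) : S.pos (P.π₀⁻¹ r) ↔ ¬ S.pos r := by
  have := P.flip₀ (P.π₀⁻¹ r)
  rw [← Equiv.Perm.mul_apply, mul_inv_cancel, Equiv.Perm.one_apply] at this
  tauto

include hS P in
/-- The simple root sent to `-a i` by the flip. -/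
theorem exists_opp (i : ι) : ∃ j, P.π₀ (S.a j) = S.neg (S.a i) := by
  set π : Equiv.Perm R := P.π₀⁻¹ * S.σ i * P.π₀ with hπ
  have hmem : π ∈ S.W :=
    mul_mem (mul_mem (inv_mem P.acts₀.1) (Subgroup.subset_closure ⟨i, rfl⟩)) P.acts₀.1
  obtain ⟨j, hj⟩ := hS.descent π hmem ⟨P.π₀⁻¹ (S.neg (S.a i)), (P.pos_π₀_inv _).2 (pos_neg_a hS i), by
    simp only [hπ, Equiv.Perm.mul_apply, Equiv.Perm.coe_inv, Equiv.apply_symm_apply]
    rw [← Equiv.Perm.coe_inv, P.pos_π₀_inv, not_not, hS.sigma_neg, hS.sigma_a, P.neg_neg]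
    exact hS.pos_a i⟩
  refine ⟨j, ?_⟩
  by_contra hne
  apply hj
  simp only [hπ, Equiv.Perm.mul_apply]
  rw [P.pos_π₀_inv]
  exact (P.sigma_negside hS i (fun h => (P.flip₀ _).1 h (hS.pos_a j)) hne).1

include hS P in
theorem a_conj_UhatN (i : ι) {x g : G} (hx : x ∈ S.U (S.neg (S.a i))) (hg : g ∈ UhatN S i) :
    x * g * x⁻¹ ∈ UhatN S i := by
  obtain ⟨j, hj⟩ := P.exists_opp hS i
  have key : ∀ y, y ∈ UhatN S i ↔ P.w₀⁻¹ * y * P.w₀ ∈ S.Uhat j := by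
    have hfwd : (S.Uhat j).map (MulAut.conj P.w₀).toMonoidHom = UhatN S i := by
      rw [RootGroupSys.Uhat, MonoidHom.map_closure, UhatN]
      congr 1
      ext y
      constructor
      · rintro ⟨z, ⟨r, hr, hne, hz⟩, rfl⟩
        exact ⟨_, fun h => (P.flip₀ r).1 h hr, fun e => hne (P.π₀.injective (e.trans hj.symm)),
          acts_conj_mem P.acts₀ hz⟩
      · rintro ⟨r, hr, hne, hy⟩
        refine ⟨P.w₀⁻¹ * y * P.w₀, ⟨P.π₀⁻¹ r, (P.pos_π₀_inv r).2 hr, fun e => hne ?_, ?_⟩, by simp [mul_assoc]⟩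
        · rw [← hj, ← e]; simp
        · have := acts_conj_mem (acts_inv P.acts₀) hy
          simpa using this
    intro y
    rw [← hfwd, Subgroup.mem_map]
    constructor
    · rintro ⟨z, hz, rfl⟩; simpa [mul_assoc] using hz
    · intro h; exact ⟨_, h, by simp [mul_assoc]⟩
  rw [key] at hg ⊢
  have hx' : P.w₀⁻¹ * x * P.w₀ ∈ S.U (S.a j) := by
    have := acts_conj_mem (acts_inv P.acts₀) hx
    rw [← hj] at this
    simpa using this
  have := Ua_conj_Uhat hS j hx' hg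
  simpa [mul_assoc] using this

include hS P in
theorem b_conj_UhatN (i : ι) {x g : G} (hx : x ∈ S.U (S.a i)) (hg : g ∈ UhatN S i) :
    x * g * x⁻¹ ∈ UhatN S i := by
  have h1 := P.n_conj_UhatN hS i hg
  have hx' : S.n i * x * (S.n i)⁻¹ ∈ S.U (S.neg (S.a i)) := hS.sigma_a i ▸ acts_conj_mem (acts_n hS i) hx
  have := P.n_inv_conj_UhatN hS i (P.a_conj_UhatN hS i hx' h1)
  simpa [mul_assoc] using this

include hS P in
theorem Uminus_split (i : ι) {v : G} (hv : v ∈ S.Uminus) :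
    ∃ v' ∈ UhatN S i, ∃ a, v = v' * P.x (S.neg (S.a i)) a := by
  induction hv using Subgroup.closure_induction with
  | mem y hy =>
    obtain ⟨r, hr, hy⟩ := hy
    by_cases h : r = S.neg (S.a i)
    · subst h
      obtain ⟨t, rfl⟩ := (P.mem_U _ _).1 hy
      exact ⟨1, one_mem _, t, (one_mul _).symm⟩
    · exact ⟨y, Subgroup.subset_closure ⟨r, hr, h, hy⟩, 0, by rw [P.x_zero, mul_one]⟩
  | one => exact ⟨1, one_mem _, 0, by rw [P.x_zero, mul_one]⟩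
  | mul y z _ _ hy hz =>
    obtain ⟨y', hy', a, rfl⟩ := hy
    obtain ⟨z', hz', b, rfl⟩ := hz
    refine ⟨y' * (P.x (S.neg (S.a i)) a * z' * (P.x (S.neg (S.a i)) a)⁻¹),
      mul_mem hy' (P.a_conj_UhatN hS i (P.x_mem _ _) hz'), a + b, ?_⟩
    rw [P.x_add]; group
  | inv y _ hy =>
    obtain ⟨y', hy', a, rfl⟩ := hy
    refine ⟨P.x (S.neg (S.a i)) (-a) * y'⁻¹ * (P.x (S.neg (S.a i)) (-a))⁻¹,
      P.a_conj_UhatN hS i (P.x_mem _ _) (inv_mem hy'), -a, ?_⟩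
    rw [P.x_neg]; group

/-- `a` is the component of `v` at `-a i`. -/
def HasV (i : ι) (v : G) (a : F) : Prop := ∃ v' ∈ UhatN S i, v = v' * P.x (S.neg (S.a i)) a

/-- `b` is the component of `u` at `a i`. -/
def HasU (i : ι) (u : G) (b : F) : Prop := ∃ u' ∈ S.Uhat i, u = P.x (S.a i) b * u'

include hS in
theorem exists_hasV (i : ι) {v : G} (hv : v ∈ S.Uminus) : ∃ a, P.HasV i v a := by
  obtain ⟨v', hv', a, rfl⟩ := P.Uminus_split hS i hv
  exact ⟨a, v', hv', rfl⟩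

include hS in
theorem exists_hasU (i : ι) {u : G} (hu : u ∈ S.Uplus) : ∃ b, P.HasU i u b := by
  obtain ⟨u', hu', x, hx, rfl⟩ := Uplus_split hS i hu
  obtain ⟨b, rfl⟩ := (P.mem_U _ _).1 hx
  exact ⟨b, (P.x (S.a i) b)⁻¹ * u' * P.x (S.a i) b,
    by simpa using Ua_conj_Uhat hS i (inv_mem (P.x_mem (S.a i) b)) hu', by group⟩

include hS in
theorem HasV.mem {i : ι} {v : G} {a : F} (h : P.HasV i v a) : v ∈ S.Uminus := by
  obtain ⟨v', hv', rfl⟩ := h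
  exact mul_mem (UhatN_le i hv') (P.mem_Uminus (pos_neg_a hS i) a)

include hS in
theorem HasU.mem {i : ι} {u : G} {b : F} (h : P.HasU i u b) : u ∈ S.Uplus := by
  obtain ⟨u', hu', rfl⟩ := h
  exact mul_mem (P.mem_Uplus (hS.pos_a i) b) (Uhat_le_Uplus i hu')

include hS hsep in
theorem eq_one_of_UhatN {i : ι} {a : F} (h : P.x (S.neg (S.a i)) a ∈ UhatN S i) : a = 0 := by
  have h1 := UhatN_le i (P.n_conj_UhatN hS i h)
  have h2 : S.n i * P.x (S.neg (S.a i)) a * (S.n i)⁻¹ ∈ S.B := by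
    refine Uplus_le_B (U_le_Uplus (hS.pos_a i) ?_)
    have := acts_conj_mem (acts_n hS i) (P.x_mem (S.neg (S.a i)) a)
    rwa [hS.sigma_neg, hS.sigma_a, P.neg_neg] at this
  have h3 : S.n i * P.x (S.neg (S.a i)) a * (S.n i)⁻¹ ∈ S.B ⊓ S.Uminus := ⟨h2, h1⟩
  rw [hsep.B_V, Subgroup.mem_bot, conj_eq_one_iff] at h3
  exact P.x_inj _ (h3.trans (P.x_zero _).symm)

include hS hsep in
theorem eq_one_of_Uhat {i : ι} {b : F} (h : P.x (S.a i) b ∈ S.Uhat i) : b = 0 := by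
  have h1 := Uplus_le_B (Uhat_le_Uplus i (n_conj_Uhat hS i h))
  have h2 : S.n i * P.x (S.a i) b * (S.n i)⁻¹ ∈ S.Uminus :=
    Subgroup.subset_closure ⟨_, pos_neg_a hS i, hS.sigma_a i ▸ acts_conj_mem (acts_n hS i) (P.x_mem _ _)⟩
  have h3 : S.n i * P.x (S.a i) b * (S.n i)⁻¹ ∈ S.B ⊓ S.Uminus := ⟨h1, h2⟩
  rw [hsep.B_V, Subgroup.mem_bot, conj_eq_one_iff] at h3
  exact P.x_inj _ (h3.trans (P.x_zero _).symm)

include hS hsep in
theorem HasV.unique {i : ι} {v : G} {a a' : F} (h : P.HasV i v a) (h' : P.HasV i v a') : a = a' := by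
  obtain ⟨v₁, hv₁, rfl⟩ := h
  obtain ⟨v₂, hv₂, e⟩ := h'
  refine eq_of_sub_eq_zero (P.eq_one_of_UhatN hS hsep (i := i) ?_)
  rw [sub_eq_add_neg, P.x_add, P.x_neg, show P.x (S.neg (S.a i)) a * (P.x (S.neg (S.a i)) a')⁻¹ =
    v₁⁻¹ * (v₁ * P.x (S.neg (S.a i)) a) * (P.x (S.neg (S.a i)) a')⁻¹ by group, e, mul_assoc, mul_assoc,
    mul_inv_cancel, mul_one]
  exact mul_mem (inv_mem hv₁) hv₂

include hS hsep in
theorem HasU.unique {i : ι} {u : G} {b b' : F} (h : P.HasU i u b) (h' : P.HasU i u b') : b = b' := by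
  obtain ⟨u₁, hu₁, rfl⟩ := h
  obtain ⟨u₂, hu₂, e⟩ := h'
  refine eq_of_sub_eq_zero (P.eq_one_of_Uhat hS hsep (i := i) ?_)
  rw [sub_eq_add_neg, add_comm, P.x_add, P.x_neg, show (P.x (S.a i) b')⁻¹ * P.x (S.a i) b =
    (P.x (S.a i) b')⁻¹ * (P.x (S.a i) b * u₁) * u₁⁻¹ by group, e, inv_mul_cancel_left]
  exact mul_mem hu₂ (inv_mem hu₁)

theorem hasV_of_hat {i : ι} {v : G} (hv : v ∈ UhatN S i) : P.HasV i v 0 :=
  ⟨v, hv, by rw [P.x_zero, mul_one]⟩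

theorem hasU_of_hat {i : ι} {u : G} (hu : u ∈ S.Uhat i) : P.HasU i u 0 :=
  ⟨u, hu, by rw [P.x_zero, one_mul]⟩

theorem hasV_x (i : ι) (a : F) : P.HasV i (P.x (S.neg (S.a i)) a) a := ⟨1, one_mem _, (one_mul _).symm⟩

theorem hasU_x (i : ι) (b : F) : P.HasU i (P.x (S.a i) b) b := ⟨1, one_mem _, (mul_one _).symm⟩

include hS in
theorem HasV.mul {i : ι} {v w : G} {a b : F} (h : P.HasV i v a) (h' : P.HasV i w b) :
    P.HasV i (v * w) (a + b) := by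
  obtain ⟨v', hv', rfl⟩ := h
  obtain ⟨w', hw', rfl⟩ := h'
  exact ⟨v' * (P.x (S.neg (S.a i)) a * w' * (P.x (S.neg (S.a i)) a)⁻¹),
    mul_mem hv' (P.a_conj_UhatN hS i (P.x_mem _ _) hw'), by rw [P.x_add]; group⟩

include hS in
theorem HasU.mul {i : ι} {u w : G} {a b : F} (h : P.HasU i u a) (h' : P.HasU i w b) :
    P.HasU i (u * w) (a + b) := by
  obtain ⟨u', hu', rfl⟩ := h
  obtain ⟨w', hw', rfl⟩ := h'
  exact ⟨((P.x (S.a i) b)⁻¹ * u' * P.x (S.a i) b) * w',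
    mul_mem (by simpa using Ua_conj_Uhat hS i (inv_mem (P.x_mem (S.a i) b)) hu') hw', by rw [P.x_add]; group⟩

include hS in
theorem HasV.conj_H {i : ι} {v : G} {a : F} (h : P.HasV i v a) (c : ι → Fˣ) :
    P.HasV i (P.φ c * v * (P.φ c)⁻¹) ((P.χ c (S.neg (S.a i)) : F) * a) := by
  obtain ⟨v', hv', rfl⟩ := h
  refine ⟨P.φ c * v' * (P.φ c)⁻¹, H_conj_UhatN hS i (P.φ_mem c) hv', ?_⟩
  rw [χ, ← P.conj_φ]; group

include hS in
theorem HasU.conj_H {i : ι} {u : G} {b : F} (h : P.HasU i u b) (c : ι → Fˣ) :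
    P.HasU i (P.φ c * u * (P.φ c)⁻¹) ((P.χ c (S.a i) : F) * b) := by
  obtain ⟨u', hu', rfl⟩ := h
  refine ⟨P.φ c * u' * (P.φ c)⁻¹, H_conj_Uhat hS i (P.φ_mem c) hu', ?_⟩
  rw [χ, ← P.conj_φ]; group

include hS in
theorem hasV_x_ne {i j : ι} (h : S.neg (S.a j) ≠ S.neg (S.a i)) (a : F) : P.HasV i (P.x (S.neg (S.a j)) a) 0 :=
  P.hasV_of_hat (Subgroup.subset_closure ⟨_, pos_neg_a hS j, h, P.x_mem _ _⟩)

include hS in
theorem hasU_x_ne {i j : ι} (h : S.a j ≠ S.a i) (b : F) : P.HasU i (P.x (S.a j) b) 0 :=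
  P.hasU_of_hat (U_le_Uhat (hS.pos_a j) h (P.x_mem _ _))

section cell

include hS in
theorem exists_rankone_opp (i : ι) {e : F} (he : e ≠ 0) :
    ∃ a b : F, ∃ h ∈ S.H, P.x (S.a i) e = P.x (S.neg (S.a i)) a * h * S.n i * P.x (S.neg (S.a i)) b := by
  have hy : (S.n i)⁻¹ * P.x (S.a i) e * S.n i ∈ S.U (S.neg (S.a i)) := by
    have := acts_conj_mem (acts_inv (acts_n hS i)) (P.x_mem (S.a i) e)
    rw [RootGroupSys.sigma_inv hS, hS.sigma_a] at this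
    simpa using this
  have hy1 : (S.n i)⁻¹ * P.x (S.a i) e * S.n i ≠ 1 := by
    intro h
    have h' : (S.n i)⁻¹ * P.x (S.a i) e * (S.n i)⁻¹⁻¹ = 1 := by rwa [inv_inv]
    rw [conj_eq_one_iff] at h'
    exact he (P.x_inj _ (h'.trans (P.x_zero _).symm))
  obtain ⟨x₁, hx₁, h, hh, x₂, hx₂, eq⟩ := hS.rankone i _ hy hy1
  have m : ∀ {z}, z ∈ S.U (S.a i) → ∃ t, S.n i * z * (S.n i)⁻¹ = P.x (S.neg (S.a i)) t := fun {z} hz =>
    (P.mem_U _ _).1 (hS.sigma_a i ▸ acts_conj_mem (acts_n hS i) hz)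
  obtain ⟨a, ha⟩ := m hx₁
  obtain ⟨b, hb⟩ := m hx₂
  refine ⟨a, b, S.n i * h * (S.n i)⁻¹, hS.n_norm i h hh, ?_⟩
  rw [← ha, ← hb]
  calc P.x (S.a i) e = S.n i * ((S.n i)⁻¹ * P.x (S.a i) e * S.n i) * (S.n i)⁻¹ := by group
    _ = _ := by rw [eq]; group

include hS hsep P in
/-- Every element has a conjugate in the big cell, provided the field has at least three elements. -/
theorem exists_big_cell [Finite R] (hq : ∃ c : F, c ≠ 0 ∧ c ≠ 1) (g : G) :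
    ∃ y, ∃ v ∈ S.Uminus, ∃ c, ∃ u ∈ S.Uplus, y * g * y⁻¹ = v * P.φ c * u := by
  have hcover : ∀ g : G, ∃ v ∈ S.Uminus, ∃ n π, S.Acts n π ∧ n ∈ S.N ∧ ∃ b ∈ S.B, g = v * n * b := by
    intro g
    obtain ⟨b, hb, n, hn, b', hb', e⟩ := exists_BNB hS (P.w₀⁻¹ * g)
    obtain ⟨u, hu, h, hh, rfl⟩ := mem_B hS hb
    have hv : P.w₀ * u * P.w₀⁻¹ ∈ S.Uminus := by
      have : (S.Uplus).map (MulAut.conj P.w₀).toMonoidHom ≤ S.Uminus := by
        rw [RootGroupSys.Uplus, MonoidHom.map_closure, Subgroup.closure_le]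
        rintro _ ⟨z, ⟨r, hr, hz⟩, rfl⟩
        exact Subgroup.subset_closure ⟨_, fun h => (P.flip₀ r).1 h hr, acts_conj_mem P.acts₀ hz⟩
      exact this ⟨u, hu, rfl⟩
    obtain ⟨π, hπ⟩ := exists_acts hS hn
    obtain ⟨w, hw, hwN, hwA⟩ : ∃ w, w = P.w₀ * h * n ∧ w ∈ S.N ∧ S.Acts w (P.π₀ * π) := by
      refine ⟨_, rfl, ?_, ?_⟩
      swap
      · have := acts_mul (acts_mul P.acts₀ (acts_H hS hh)) hπ
        rwa [mul_one] at this
      exact mul_mem (mul_mem P.w₀_mem (H_le_N hh)) hn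
    exact ⟨_, hv, w, _, hwA, hwN, b', hb', by rw [hw]; calc g = P.w₀ * (P.w₀⁻¹ * g) := by group
      _ = _ := by rw [e]; group⟩
  suffices ∀ k : ℕ, ∀ g v n π b, v ∈ S.Uminus → S.Acts n π → n ∈ S.N → b ∈ S.B →
      {r | S.pos r ∧ ¬ S.pos (π⁻¹ r)}.ncard = k → g = v * n * b →
      ∃ y, ∃ v ∈ S.Uminus, ∃ c, ∃ u ∈ S.Uplus, y * g * y⁻¹ = v * P.φ c * u by
    obtain ⟨v, hv, n, π, hπ, hn, b, hb, e⟩ := hcover g
    exact this _ g v n π b hv hπ hn hb rfl e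
  intro k
  induction k using Nat.strong_induction_on with
  | _ k ih =>
  intro g v n π b hv hπ hn hb hk e
  by_cases hpos : ∀ r, S.pos r → S.pos (π r)
  · have h1 : π = 1 := hsep.fix π hπ.1 hpos
    have hH : n ∈ S.H := mem_H_of_acts_one hS hsep hn (h1 ▸ hπ)
    obtain ⟨u, hu, h, hh, rfl⟩ := mem_B hS hb
    obtain ⟨c, hc⟩ := P.exists_φ (mul_mem hH hh)
    refine ⟨1, v, hv, c, h⁻¹ * u * h, ?_, ?_⟩
    · simpa using H_conj_Uplus hS (inv_mem hh) hu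
    · rw [hc, e]; group
  push Not at hpos
  obtain ⟨r₀, hr₀, hr₀'⟩ := hpos
  obtain ⟨i, hi⟩ := hS.descent π⁻¹ (inv_mem hπ.1) ⟨S.neg (π r₀), (hS.pos_neg _).2 hr₀', by
    rw [W_neg hS (inv_mem hπ.1), hS.pos_neg, ← Equiv.Perm.mul_apply, inv_mul_cancel, Equiv.Perm.one_apply,
      not_not]
    exact hr₀⟩
  obtain ⟨v', hv', a, rfl⟩ := P.Uminus_split hS i hv
  obtain ⟨c, hc, hca⟩ : ∃ c : F, c ≠ 0 ∧ 1 + c * a ≠ 0 := by
    by_cases ha : 1 + a = 0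
    · obtain ⟨c, h0, h1⟩ := hq
      refine ⟨c, h0, fun h => h1 ?_⟩
      have : a = -1 := by linear_combination ha
      rw [this] at h
      linear_combination -h
    · exact ⟨1, one_ne_zero, by rwa [one_mul]⟩
  set s : Fˣ := Units.mk0 _ hca
  have hg := P.gauss i c a s rfl
  obtain ⟨a', b', h, hh, he⟩ := P.exists_rankone_opp hS i (div_ne_zero hc s.ne_zero : c / (s : F) ≠ 0)
  set x := P.x (S.a i) c
  have hpos' : n⁻¹ * P.x (S.neg (S.a i)) b' * n ∈ S.B := by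
    refine acts_inv_pos hS hπ (r := S.neg (S.a i)) ?_ (P.x_mem _ _)
    rw [W_neg hS (inv_mem hπ.1), hS.pos_neg]
    exact hi
  set t : ι → Fˣ := Pi.mulSingle i s with ht
  have hw : S.Acts (P.φ t * h * S.n i * n) (S.σ i * π) := by
    simpa using acts_mul (acts_mul (acts_mul (acts_H hS (P.φ_mem t)) (acts_H hS hh)) (acts_n hS i)) hπ
  have hx : x ∈ S.B := Uplus_le_B (P.mem_Uplus (hS.pos_a i) c)
  have hv2 : x * v' * x⁻¹ * (P.x (S.neg (S.a i)) (a / s) * (P.φ t * P.x (S.neg (S.a i)) a' * (P.φ t)⁻¹)) ∈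
      S.Uminus := by
    refine mul_mem (UhatN_le i (P.b_conj_UhatN hS i (P.x_mem _ _) hv')) (mul_mem (P.mem_Uminus (pos_neg_a hS i) _) ?_)
    rw [P.conj_φ]; exact P.mem_Uminus (pos_neg_a hS i) _
  have hlt : {r | S.pos r ∧ ¬ S.pos ((S.σ i * π)⁻¹ r)}.ncard < k := by
    rw [← hk]
    have hset : {r | S.pos r ∧ ¬ S.pos ((S.σ i * π)⁻¹ r)} =
        S.σ i '' ({r | S.pos r ∧ ¬ S.pos (π⁻¹ r)} \ {S.a i}) := by
      have hinv : ∀ r, (S.σ i * π)⁻¹ r = π⁻¹ (S.σ i r) := fun r => by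
        rw [mul_inv_rev, Equiv.Perm.mul_apply, RootGroupSys.sigma_inv hS]
      ext r
      rw [Set.mem_image]
      constructor
      · rintro ⟨hr, hr'⟩
        have hne : r ≠ S.a i := by
          rintro rfl
          rw [hinv, hS.sigma_a, W_neg hS (inv_mem hπ.1), hS.pos_neg, not_not] at hr'
          exact hi hr'
        exact ⟨S.σ i r, ⟨⟨hS.sigma_pos i r hr hne, by rwa [← hinv]⟩, sigma_ne_a hS hr hne⟩, hS.sigma_sigma i r⟩
      · rintro ⟨r', ⟨⟨hr, hr'⟩, hne⟩, rfl⟩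
        refine ⟨hS.sigma_pos i r' hr hne, ?_⟩
        rwa [hinv, hS.sigma_sigma]
    rw [hset, Set.ncard_image_of_injective _ (S.σ i).injective]
    exact Set.ncard_lt_ncard (Set.diff_singleton_ssubset.2 ⟨hS.pos_a i, hi⟩) (Set.toFinite _)
  have heq : x * g * x⁻¹ = x * v' * x⁻¹ * (P.x (S.neg (S.a i)) (a / s) * (P.φ t * P.x (S.neg (S.a i)) a' *
      (P.φ t)⁻¹)) * (P.φ t * h * S.n i * n) * (n⁻¹ * P.x (S.neg (S.a i)) b' * n * (b * x⁻¹)) := by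
    rw [e]
    calc x * (v' * P.x (S.neg (S.a i)) a * n * b) * x⁻¹ = x * v' * x⁻¹ * (x * P.x (S.neg (S.a i)) a) * n * b * x⁻¹ := by group
      _ = _ := by rw [hg, he]; group
  obtain ⟨y, v₁, hv₁, c₁, u₁, hu₁, e₁⟩ := ih _ hlt (x * g * x⁻¹) _ _ (S.σ i * π) _ hv2 hw
    (mul_mem (mul_mem (mul_mem (H_le_N (P.φ_mem t)) (H_le_N hh)) (n_mem_N i)) hn)
    (mul_mem hpos' (mul_mem hb (inv_mem hx))) rfl heq
  exact ⟨y * x, v₁, hv₁, c₁, u₁, hu₁, by rw [← e₁]; group⟩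

end cell

end Split

end H21.ClassSquare.Exc
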