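import Cfsg.Agent.H21.ClassSquare.Exc.Levi

/-!
The class square from the data of a Levi subgroup.
-/

set_option autoImplicit false
set_option linter.unusedSectionVars false
set_option linter.style.haveILetI false

namespace H21.ClassSquare.Exc

open Cfsg Cfsg.Lie
open H53 (RootGroupSys ChevSys matSys)
open H53.RootGroupSys
open H41 H41.Reg
open Matrix (SpecialLinearGroup)
open scoped MatrixGroups

theorem prod_zpow_sum {M ι : Type*} [CommGroup M] (s : M) (t : Finset ι) (f : ι → ℤ) :
    ∏ i ∈ t, s ^ f i = s ^ ∑ i ∈ t, f i := by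
  classical
  induction t using Finset.induction with
  | empty => simp
  | insert a t ha ih => rw [Finset.prod_insert ha, Finset.sum_insert ha, ih, zpow_add]

variable {D : ChevalleyDatum} {T : H52.Tables} {F : Type*} [Field F] [Fintype F] (K : H52.BNData D T) {n : ℕ}
  (V : LeviData D n)

theorem UR_eq (ε : ℤ) : UR V F ε = Subgroup.closure
    {g | ∃ (r : Fin D.nroots) (t : F), 0 < ε * deg D V.w r.val ∧ g = xG r t} := by
  apply Subgroup.map_injective (D.group F).subtype_injective
  rw [UR, MonoidHom.map_closure, Subgroup.map_comap_eq_self, H52.genBy]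
  · congr 1
    ext g
    constructor
    · rintro ⟨r, t, ⟨hr, h⟩, rfl⟩; exact ⟨_, ⟨⟨r, hr⟩, t, h, rfl⟩, rfl⟩
    · rintro ⟨_, ⟨r, t, h, rfl⟩, rfl⟩; exact ⟨r.val, t, ⟨r.isLt, h⟩, rfl⟩
  · rw [Subgroup.range_subtype, H52.genBy, Subgroup.closure_le]
    rintro g ⟨r, t, -, rfl⟩
    exact H53.rt_mem_group r t

/-- The regular element of the centre of the Levi subgroup. -/
noncomputable def zel (s : Fˣ) : ↥(D.group F) := CC.phi K fun k => s ^ V.w k

theorem zel_conj (s : Fˣ) (r : Fin D.nroots) (u : F) :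
    zel K V s * xG r u * (zel K V s)⁻¹ = xG r (((s ^ deg D V.w r.val : Fˣ) : F) * u) := by
  have h := (split (F := F) K).conj_φ (fun k => s ^ V.w k) r u
  simp only [split_φ, split_x, split_A, ← zpow_mul, prod_zpow_sum] at h
  exact h

theorem phi_comm (c c' : Fin D.rank → Fˣ) : Commute (CC.phi K c) (CC.phi K c') := by
  rw [Commute, SemiconjBy, ← map_mul, ← map_mul, mul_comm]

section

variable {φJ : SpecialLinearGroup (Fin (n + 1)) F →* ↥(D.group F)} (hφ : IsChain V φJ)

include hφ in
theorem zel_comm (s : Fˣ) (A : SpecialLinearGroup (Fin (n + 1)) F) : Commute (zel K V s) (φJ A) := by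
  have h : (MulAut.conj (zel K V s)).toMonoidHom.comp φJ = φJ := by
    refine MonoidHom.eq_of_eqOn_dense H37.closure_transvection_eq_top ?_
    rintro _ ⟨i, j, hij, c, rfl⟩
    simp only [MonoidHom.comp_apply, MulEquiv.coe_toMonoidHom, MulAut.conj_apply, φJ_transvection V hφ hij,
      zel_conj, V.degJ i j hij, zpow_zero, Units.val_one, one_mul]
  have h1 := DFunLike.congr_fun h A
  simp only [MonoidHom.comp_apply, MulEquiv.coe_toMonoidHom, MulAut.conj_apply] at h1
  exact mul_inv_eq_iff_eq_mul.1 h1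

include hφ in
theorem phi_conj_word (u : Fˣ) (l : List (Fin n)) (f : Fin n → F) :
    CC.phi K (fun k => u ^ V.v k) * φJ (word l f) * (CC.phi K (fun k => u ^ V.v k))⁻¹ =
      φJ (word l fun i => (if i.val = 0 then (u : F) else 1) * f i) := by
  induction l with
  | nil => simp [word]
  | cons a l ih =>
    have h1 : CC.phi K (fun k => u ^ V.v k) * φJ (st a (f a)) * (CC.phi K (fun k => u ^ V.v k))⁻¹ =
        φJ (st a ((if a.val = 0 then (u : F) else 1) * f a)) := by
      have h := (split (F := F) K).conj_φ (fun k => u ^ V.v k) (ChevSys.sa K.W (V.Jv a)) (f a)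
      have hv : ∑ k, V.v k * D.cartan k.val (ChevSys.sa K.W (V.Jv a)).val = if a.val = 0 then 1 else 0 := by
        rw [show (ChevSys.sa K.W (V.Jv a)).val = D.simple (V.Jv a).val from K.W.simple_eq _]; exact V.dual a
      simp only [split_φ, split_x, split_A, ← zpow_mul, prod_zpow_sum, hv] at h
      rw [φJ_st K V hφ, φJ_st K V hφ, h]
      split_ifs <;> simp
    simp only [word, List.map_cons, List.prod_cons, map_mul] at ih ⊢
    rw [← h1, ← ih]; group

include hφ in
/-- All conjugates of the Jordan block give conjugates of the standard element by centralisers of `z`. -/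
theorem exists_conj_uni (s : Fˣ) (X : SpecialLinearGroup (Fin (n + 1)) F)
    (h : IsConj (jordanGL F (n + 1)) X.toGL) :
    ∃ y, Commute (zel K V s) y ∧ y * φJ (uni F n) * y⁻¹ = φJ X := by
  obtain ⟨A, u, rfl⟩ := exists_conj_word X h
  refine ⟨φJ A * CC.phi K (fun k => u ^ V.v k), (zel_comm K V hφ s A).mul_right (phi_comm K _ _), ?_⟩
  have := phi_conj_word K V hφ u (List.finRange n) fun _ => (1 : F)
  simp only [mul_one] at this
  rw [map_mul, map_mul, map_inv, ← this, uni]
  group

include hφ in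
theorem isConj_c0 (s : Fˣ) (X : SpecialLinearGroup (Fin (n + 1)) F)
    (h : IsConj (jordanGL F (n + 1)) X.toGL) : IsConj (zel K V s * φJ (uni F n)) (zel K V s * φJ X) := by
  obtain ⟨y, hy, e⟩ := exists_conj_uni K V hφ s X h
  refine isConj_iff.2 ⟨y, ?_⟩
  calc y * (zel K V s * φJ (uni F n)) * y⁻¹ = y * zel K V s * (φJ (uni F n) * y⁻¹) := by group
    _ = zel K V s * y * (φJ (uni F n) * y⁻¹) := by rw [hy.eq]
    _ = _ := by rw [← e]; group

end

section Mirror

/-- The mirror element. -/
noncomputable def nmir (F : Type*) [Field F] : ↥(D.group F) := (V.L.map (K.sys F).n).prod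

theorem nmir_conj (r : Fin D.nroots) :
    ∃ (r' : Fin D.nroots) (c : F), c ≠ 0 ∧
      r'.val = V.L.foldr (fun (a : Fin D.rank) s => D.reflectRoot a.val s) r.val ∧
      ∀ t, nmir K V F * xG r t * (nmir K V F)⁻¹ = xG r' (c * t) := by
  unfold nmir
  induction V.L with
  | nil => exact ⟨r, 1, one_ne_zero, rfl, fun t => by simp⟩
  | cons a L ih =>
    obtain ⟨r', c, hc, he, h⟩ := ih
    obtain ⟨d, hd, h'⟩ := (rel (F := F) K).conj_n a r'
    refine ⟨K.W.data.act a r', d * c, mul_ne_zero hd hc, ?_, fun t => ?_⟩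
    · rw [List.foldr_cons, K.W.act_eq, he]
    · have hx := h' (c * t)
      rw [← mul_inv_eq_iff_eq_mul, ← mul_assoc d c t] at hx
      rw [List.map_cons, List.prod_cons]
      show _ = (matSys D F).x _ _
      rw [← hx, show (matSys D F).x r' (c * t) = xG r' (c * t) from rfl, ← h t]
      show _ = ChevSys.nEl K.W (matSys D F) a 1 * _ * (ChevSys.nEl K.W (matSys D F) a 1)⁻¹
      rw [show (K.sys F).n a = ChevSys.nEl K.W (matSys D F) a 1 from rfl]
      group

theorem central_of_simple {y : ↥(D.group F)}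
    (h : ∀ (i : Fin D.rank) (t : F), Commute y (xG (ChevSys.sa K.W i) t) ∧ Commute y (xG (ChevSys.na K.W i) t)) :
    y ∈ Subgroup.center ↥(D.group F) := by
  have hle : (K.sys F).H ⊔ Subgroup.closure
      {g | ∃ i, g ∈ (K.sys F).U ((K.sys F).a i) ∨ g ∈ (K.sys F).U ((K.sys F).neg ((K.sys F).a i))} ≤
      Subgroup.centralizer {y} := by
    refine sup_le ((Subgroup.closure_le _).2 ?_) ((Subgroup.closure_le _).2 ?_)
    · rintro _ ⟨i, t, -, rfl⟩
      rw [SetLike.mem_coe, Subgroup.mem_centralizer_singleton_iff]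
      simp only [ChevSys.hEl, ChevSys.nEl]
      exact ((((h i t).1.mul_right (h i _).2).mul_right (h i t).1).mul_right
        (((h i _).1.mul_right (h i _).2).mul_right (h i _).1)).symm.eq
    · rintro g ⟨i, hg | hg⟩ <;> obtain ⟨t, rfl⟩ := ((split K).mem_U _ g).1 hg <;>
        rw [SetLike.mem_coe, Subgroup.mem_centralizer_singleton_iff]
      · exact (h i t).1.symm.eq
      · exact (h i t).2.symm.eq
  rw [Subgroup.mem_center_iff]
  intro x
  have hx : x ∈ (⊤ : Subgroup ↥(D.group F)) := trivial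
  rw [← (K.axioms' (F := F)).gen] at hx
  exact Subgroup.mem_centralizer_singleton_iff.1 (hle hx)

theorem nmir_zel (hc : Subgroup.center ↥(D.group F) = ⊥) (s : Fˣ) :
    nmir K V F * zel K V s * (nmir K V F)⁻¹ = (zel K V s)⁻¹ := by
  have hy : (nmir K V F)⁻¹ * zel K V s * nmir K V F * zel K V s ∈ Subgroup.center ↥(D.group F) := by
    have key : ∀ (r : Fin D.nroots) (t : F),
        Commute ((nmir K V F)⁻¹ * zel K V s * nmir K V F * zel K V s) (xG r t) := by
      intro r t
      obtain ⟨r', c, -, he, hn⟩ := nmir_conj K V (F := F) r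
      have hdeg : deg D V.w r'.val = - deg D V.w r.val := by rw [he]; exact deg_mirror K V r.isLt
      set a : Fˣ := s ^ deg D V.w r.val
      have h1 := zel_conj K V s r t
      have h2 := zel_conj K V s r' (c * ((a : F) * t))
      rw [← hn, hdeg, zpow_neg] at h2
      have hcancel : (((s ^ deg D V.w r.val)⁻¹ : Fˣ) : F) * (c * ((a : F) * t)) = c * t := by
        rw [Units.val_inv_eq_inv_val]; field_simp [a]; ring
      rw [hcancel, ← hn] at h2
      rw [Commute, SemiconjBy, ← mul_inv_eq_iff_eq_mul]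
      generalize nmir K V F = m at h1 h2 ⊢
      generalize zel K V s = z at h1 h2 ⊢
      calc m⁻¹ * z * m * z * xG r t * (m⁻¹ * z * m * z)⁻¹
          = m⁻¹ * (z * (m * (z * xG r t * z⁻¹) * m⁻¹) * z⁻¹) * m := by group
        _ = _ := by rw [h1, h2]; group
    exact central_of_simple K fun i t => ⟨key _ t, key _ t⟩
  rw [hc, Subgroup.mem_bot] at hy
  generalize nmir K V F = m at hy ⊢
  generalize zel K V s = z at hy ⊢
  have h : m⁻¹ * z * m = z⁻¹ := eq_inv_of_mul_eq_one_left hy
  have h' : m⁻¹ * z⁻¹ * m = z := by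
    calc m⁻¹ * z⁻¹ * m = (m⁻¹ * z * m)⁻¹ := by group
      _ = z := by rw [h, inv_inv]
  calc m * z * m⁻¹ = m * (m⁻¹ * z⁻¹ * m) * m⁻¹ := by rw [h']
    _ = z⁻¹ := by group

include K in
theorem foldr_inj (L : List (Fin D.rank)) {r r' : ℕ} (hr : r < D.nroots) (hr' : r' < D.nroots)
    (h : L.foldr (fun (a : Fin D.rank) s => D.reflectRoot a.val s) r =
      L.foldr (fun (a : Fin D.rank) s => D.reflectRoot a.val s) r') : r = r' := by
  induction L with
  | nil => exact h
  | cons a L ih =>
    simp only [List.foldr_cons] at h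
    exact ih (K.chk.reflect_inj a.isLt (deg_word K L hr).1 (deg_word K L hr').1 h)

variable {φJ : SpecialLinearGroup (Fin (n + 1)) F →* ↥(D.group F)} (hφ : IsChain V φJ)

include hφ in
theorem nmir_uni : ∃ X : SpecialLinearGroup (Fin (n + 1)) F, IsConj (jordanGL F (n + 1)) X.toGL ∧
    nmir K V F * φJ (uni F n) * (nmir K V F)⁻¹ = φJ X := by
  choose σ hσ using V.inner
  have hinj : Function.Injective σ := fun i j h => by
    have h1 := foldr_inj K V.L (K.chk.simple_lt (V.Jv i).isLt) (K.chk.simple_lt (V.Jv j).isLt)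
      ((hσ i).trans (h ▸ (hσ j).symm))
    refine V.Jinj i j (Fin.ext ?_)
    have h2 := congrArg (fun r => T.co r (V.Jv i).val) h1
    simp only [K.chk.co_simple (V.Jv i).isLt (V.Jv i).isLt, K.chk.co_simple (V.Jv j).isLt (V.Jv i).isLt,
      if_true] at h2
    by_contra hne
    rw [if_neg hne] at h2
    exact one_ne_zero h2
  let σ' : Fin n ≃ Fin n := Equiv.ofBijective σ (Finite.injective_iff_bijective.1 hinj)
  have hstep : ∀ i : Fin n, ∃ c : F, c ≠ 0 ∧
      nmir K V F * φJ (st i 1) * (nmir K V F)⁻¹ = φJ (st (σ i) c) := by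
    intro i
    obtain ⟨r', c, hc, he, hn⟩ := nmir_conj K V (F := F) (ChevSys.sa K.W (V.Jv i))
    refine ⟨c, hc, ?_⟩
    rw [φJ_st K V hφ, φJ_st K V hφ, hn, mul_one]
    rw [show (ChevSys.sa K.W (V.Jv i)).val = D.simple (V.Jv i).val from K.W.simple_eq _, hσ] at he
    rw [show r' = ChevSys.sa K.W (V.Jv (σ i)) from Fin.ext (he.trans (K.W.simple_eq _).symm)]
  choose c hc hst using hstep
  let f : Fin n → F := fun j => c (σ'.symm j)
  refine ⟨word ((List.finRange n).map σ) f, isConj_word _ _ ((List.nodup_finRange n).map hinj)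
    (fun j => List.mem_map.2 ⟨σ'.symm j, List.mem_finRange _, σ'.apply_symm_apply j⟩) (fun j => hc _), ?_⟩
  rw [uni]
  induction List.finRange n with
  | nil => simp [word]
  | cons a l ih =>
    have hf : f (σ a) = c a := congrArg c (σ'.symm_apply_apply a)
    simp only [word, List.map_cons, List.prod_cons, map_mul] at ih ⊢
    rw [hf, ← hst, ← ih]; group

end Mirror

section Main

include K in
theorem torus_wordRt (c : Fin D.rank → Fˣ) (L : List (ℕ × F)) (hL : ∀ p ∈ L, p.1 < D.nroots) :
    H52.torus D c * H52.wordRt D L * (H52.torus D c)⁻¹ =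
      H52.wordRt D (L.map fun p => (p.1, ((∏ i : Fin D.rank, c i ^ D.cartan i.val p.1 : Fˣ) : F) * p.2)) := by
  induction L with
  | nil => simp [H52.wordRt]
  | cons p L ih =>
    have h1 := K.chk.torus_conj_rt c (hL p List.mem_cons_self) p.2
    have h2 := ih fun q hq => hL q (List.mem_cons_of_mem _ hq)
    simp only [H52.wordRt, List.map_cons, List.prod_cons] at h2 ⊢
    rw [← h1, ← h2]; group

theorem fixed_pos {s : Fˣ} (hs : ∀ m : ℤ, m.natAbs ≤ 7 → s ^ m = 1 → m = 0) {u : ↥(D.group F)}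
    (hu : u ∈ UR V F 1) (hc : Commute (zel K V s) u) : u = 1 := by
  have hP : H66.BT.ClosedPos D T (PR V 1) := by
    refine ⟨fun r hr => ⟨V.deg_pos r hr.1 (by simpa using hr.2), hr.1⟩, ?_⟩
    rintro a b u ⟨ha, ha'⟩ ⟨hb, hb'⟩ hu i j hi hj hco
    refine ⟨hu, ?_⟩
    rw [deg_comb K V ha hb hu hco]
    have h3 : (1 : ℤ) ≤ i := by exact_mod_cast hi
    have h4 : (1 : ℤ) ≤ j := by exact_mod_cast hj
    nlinarith
  obtain ⟨t, ht, he⟩ := H66.BT.exists_upProd_supp K.chk hP _ (D.nroots / 2) rfl le_rfl _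
    (H52.genBy_mono (fun r hr => ⟨hr, (hP.pos r hr).1⟩) (show (u : GL D.Idx F) ∈ H52.genBy D F (PR V 1) from hu))
  have h1 : H52.torus D (fun k => s ^ V.w k) * (u : GL D.Idx F) * (H52.torus D fun k => s ^ V.w k)⁻¹ = u := by
    rw [mul_inv_eq_iff_eq_mul]; exact congrArg Subtype.val hc.eq
  have hlist : ∀ p ∈ (List.range' (D.nroots / 2) (D.nroots - D.nroots / 2)).map (fun r => (r, t r)),
      p.1 < D.nroots := by
    intro p hp
    obtain ⟨r, hr, rfl⟩ := List.mem_map.1 hp
    rw [List.mem_range'_1] at hr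
    show r < D.nroots
    omega
  rw [he, H52.upProd, torus_wordRt K _ _ hlist, List.map_map] at h1
  have h2 := K.chk.upProd_injective le_rfl (k := D.nroots / 2)
    (t := fun r => ((∏ i : Fin D.rank, (s ^ V.w i) ^ D.cartan i.val r : Fˣ) : F) * t r) (t' := t) h1
  have ht0 : ∀ r, D.nroots / 2 ≤ r → r < D.nroots → t r = 0 := by
    intro r hr hr'
    by_contra h0
    have hP' : PR V 1 r := by_contra fun h => h0 (ht r h)
    have h3 := h2 r hr hr'
    simp only [← zpow_mul, prod_zpow_sum] at h3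
    have h4 : s ^ deg D V.w r = 1 :=
      Units.ext (mul_right_cancel₀ h0 (h3.trans (one_mul _).symm))
    have := hs _ (V.deg_le r hr') h4
    have := hP'.2
    omega
  apply Subtype.ext
  rw [he]
  refine List.prod_eq_one fun x hx => ?_
  simp only [List.mem_map] at hx
  obtain ⟨p, ⟨r, hr, rfl⟩, rfl⟩ := hx
  rw [List.mem_range'_1] at hr
  rw [ht0 r hr.1 (by omega), K.chk.rt_zero]

end Main

end H21.ClassSquare.Exc
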